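import Cfsg.Agent.H51.SUClasses.Rev

/-! Determinants of unitary elements commuting with a unitary matrix. -/

set_option autoImplicit false

open Polynomial Matrix

namespace H51.SUClasses

variable {F : Type*} [Field F] [Fintype F] {q n : ℕ} (hF : Fintype.card F = q ^ 2)

section Frame

variable {κ : Type*} [Fintype κ] [DecidableEq κ]

lemma exists_commute_of_frame {g : Matrix (Fin n) (Fin n) F} (hg : adj hF g * g = 1)
    (Z : Matrix (Fin n) κ F) (A : Matrix κ κ F) (hZ : g * Z = Z * A)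
    (hG : IsUnit (adj hF Z * Z).det) (M : Matrix κ κ F) (hMA : M * A = A * M)
    (hM : adj hF M * (adj hF Z * Z) * M = adj hF Z * Z) :
    ∃ u : Matrix (Fin n) (Fin n) F, adj hF u * u = 1 ∧ u * g = g * u ∧ u.det = M.det := by
  set G := adj hF Z * Z with hGdef
  have hGs : adj hF G = G := by rw [hGdef, adj_mul, adj_adj]
  have hGi : adj hF G⁻¹ = G⁻¹ := by
    refine (Matrix.inv_eq_left_inv ?_).symm
    conv_lhs => arg 2; rw [← hGs]
    rw [← adj_mul, Matrix.mul_nonsing_inv _ hG, adj_one]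
  have hg' : g * adj hF g = 1 := mul_eq_one_comm.mp hg
  refine ⟨1 + Z * (M - 1) * (G⁻¹ * adj hF Z), ?_, ?_, ?_⟩
  · have hu : adj hF (1 + Z * (M - 1) * (G⁻¹ * adj hF Z)) =
        1 + Z * G⁻¹ * ((adj hF M - 1) * adj hF Z) := by
      rw [adj_add, adj_one, adj_mul, adj_mul, adj_mul, adj_adj, hGi, adj_sub, adj_one]
    have key : (adj hF M - 1) * G + G * (M - 1) + (adj hF M - 1) * G * (M - 1) = 0 := by
      rw [show (adj hF M - 1) * G + G * (M - 1) + (adj hF M - 1) * G * (M - 1) =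
        adj hF M * G * M - G by simp only [Matrix.sub_mul, Matrix.mul_sub, one_mul, mul_one]; abel, hM, sub_self]
    rw [hu]
    have e1 : Z * (M - 1) * (G⁻¹ * adj hF Z) = Z * G⁻¹ * (G * (M - 1)) * (G⁻¹ * adj hF Z) := by
      conv_rhs => rw [Matrix.mul_assoc Z, ← Matrix.mul_assoc G⁻¹, Matrix.nonsing_inv_mul _ hG, Matrix.one_mul]
    have e2 : Z * G⁻¹ * ((adj hF M - 1) * adj hF Z) =
        Z * G⁻¹ * ((adj hF M - 1) * G) * (G⁻¹ * adj hF Z) := by
      conv_rhs => rw [Matrix.mul_assoc (Z * G⁻¹), Matrix.mul_assoc (adj hF M - 1), ← Matrix.mul_assoc G,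
        Matrix.mul_nonsing_inv _ hG, Matrix.one_mul]
    have e3 : Z * G⁻¹ * ((adj hF M - 1) * adj hF Z) * (Z * (M - 1) * (G⁻¹ * adj hF Z)) =
        Z * G⁻¹ * ((adj hF M - 1) * G * (M - 1)) * (G⁻¹ * adj hF Z) := by
      simp only [hGdef, Matrix.mul_assoc]
    rw [add_mul, one_mul, mul_add, mul_one, e3, e1, e2]
    calc _ = 1 + Z * G⁻¹ * ((adj hF M - 1) * G + G * (M - 1) + (adj hF M - 1) * G * (M - 1)) *
          (G⁻¹ * adj hF Z) := by simp only [Matrix.mul_add, Matrix.add_mul]; abel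
      _ = 1 := by rw [key, Matrix.mul_zero, Matrix.zero_mul, add_zero]
  · have hAG : adj hF A * G * A = G := by
      rw [hGdef]
      calc adj hF A * (adj hF Z * Z) * A = adj hF (Z * A) * (Z * A) := by
            rw [adj_mul]; simp only [Matrix.mul_assoc]
        _ = _ := by rw [← hZ, adj_mul]; simp only [Matrix.mul_assoc, ← Matrix.mul_assoc (adj hF g) g, hg, Matrix.one_mul]
    have hinv : adj hF A * (G * A * G⁻¹) = 1 := by
      rw [← Matrix.mul_assoc, ← Matrix.mul_assoc, hAG, Matrix.mul_nonsing_inv _ hG]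
    have hinv' := mul_eq_one_comm.mp hinv
    have hZg : adj hF Z * g = G * A * G⁻¹ * adj hF Z := by
      have h1 : adj hF Z * adj hF g = adj hF A * adj hF Z := by rw [← adj_mul, hZ, adj_mul]
      have h2 : adj hF Z = adj hF A * (adj hF Z * g) := by
        rw [← Matrix.mul_assoc, ← h1, Matrix.mul_assoc, hg, Matrix.mul_one]
      conv_rhs => rw [h2, ← Matrix.mul_assoc, hinv', Matrix.one_mul]
    rw [add_mul, mul_add, one_mul, mul_one]
    congr 1
    calc Z * (M - 1) * (G⁻¹ * adj hF Z) * g = Z * (M - 1) * (G⁻¹ * (adj hF Z * g)) := by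
          simp only [Matrix.mul_assoc]
      _ = Z * ((M - 1) * A) * (G⁻¹ * adj hF Z) := by
          rw [hZg]; simp only [← Matrix.mul_assoc]
          rw [Matrix.mul_assoc (Z * (M - 1)) G⁻¹ G, Matrix.nonsing_inv_mul _ hG, Matrix.mul_one]
      _ = Z * (A * (M - 1)) * (G⁻¹ * adj hF Z) := by rw [sub_mul, mul_sub, one_mul, mul_one, hMA]
      _ = _ := by rw [← Matrix.mul_assoc g, ← Matrix.mul_assoc g, hZ]; simp only [Matrix.mul_assoc]
  · rw [Matrix.det_one_add_mul_comm, ← Matrix.mul_assoc, Matrix.mul_assoc G⁻¹, ← hGdef,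
      Matrix.nonsing_inv_mul _ hG, Matrix.one_mul, add_sub_cancel]

end Frame

/-- The sesquilinear product `∑ wᵢ^q vᵢ`. -/
def sdot (q : ℕ) (w v : Fin n → F) : F := (fun i => w i ^ q) ⬝ᵥ v

lemma sdot_mulVec {κ : Type*} [Fintype κ] (A : Matrix (Fin n) κ F) (w : κ → F) (v : Fin n → F) :
    sdot q (A *ᵥ w) v = (fun i => w i ^ q) ⬝ᵥ (adj hF A *ᵥ v) := by
  rw [sdot, Matrix.dotProduct_mulVec, adj, Matrix.vecMul_transpose]
  congr 1
  exact funext fun i => RingHom.map_mulVec (qFrob hF) A w i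

lemma sdot_adj (A : Matrix (Fin n) (Fin n) F) (w v : Fin n → F) :
    sdot q (A *ᵥ w) v = sdot q w (adj hF A *ᵥ v) := sdot_mulVec hF A w v

lemma exists_adj_aeval_eq {g : Matrix (Fin n) (Fin n) F} (hg : adj hF g * g = 1) (b : F[X]) :
    ∃ r : F[X], adj hF (aeval g b) = aeval g r := by
  let u : GL (Fin n) F := mkGL hF g hg
  have hN : 0 < orderOf u := orderOf_pos u
  have h : g ^ b.natDegree * g ^ (b.natDegree * (orderOf u - 1)) = 1 := by
    rw [← pow_add, show b.natDegree + b.natDegree * (orderOf u - 1) = orderOf u * b.natDegree by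
      conv_lhs => arg 1; rw [← mul_one b.natDegree]
      rw [← mul_add, mul_comm (orderOf u)]; congr 1; omega]
    rw [pow_mul, show g ^ orderOf u = 1 from congrArg Units.val (pow_orderOf_eq_one u), one_pow]
  refine ⟨(b.map (qFrob hF)).reverse * X ^ (b.natDegree * (orderOf u - 1)), ?_⟩
  rw [map_mul, map_pow, aeval_X, ← adj_aeval_mul_pow hF hg b, Matrix.mul_assoc, h, Matrix.mul_one]

section Cyclic

variable {d : ℕ} {p : F[X]} (hp : p.Monic) (hd : p.natDegree = d)

/-- The power basis of `F[X]/(p)`, indexed by `Fin d`. -/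
noncomputable def kBasis : Module.Basis (Fin d) F (AdjoinRoot p) :=
  (AdjoinRoot.powerBasis' hp).basis.reindex (finCongr hd)

/-- The companion matrix of `p`. -/
noncomputable def cMat : Matrix (Fin d) (Fin d) F :=
  Algebra.leftMulMatrix (kBasis hp hd) (AdjoinRoot.root p)

/-- The map `a ↦ a(g) v`. -/
noncomputable def cycMap (g : Matrix (Fin n) (Fin n) F) (v : Fin n → F) :
    AdjoinRoot p →ₗ[F] (Fin n → F) where
  toFun a := aeval g (AdjoinRoot.modByMonicHom hp a) *ᵥ v
  map_add' a b := by rw [map_add, map_add, Matrix.add_mulVec]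
  map_smul' c a := by rw [map_smul, map_smul, Matrix.smul_mulVec, RingHom.id_apply]

/-- Its matrix. -/
noncomputable def cycMat (g : Matrix (Fin n) (Fin n) F) (v : Fin n → F) : Matrix (Fin n) (Fin d) F :=
  Matrix.of fun i k => cycMap hp g v (kBasis hp hd k) i

lemma cycMat_mulVec (g : Matrix (Fin n) (Fin n) F) (v : Fin n → F) (c : Fin d → F) :
    cycMat hp hd g v *ᵥ c = cycMap hp g v ((kBasis hp hd).equivFun.symm c) := by
  rw [Module.Basis.equivFun_symm_apply, map_sum]
  funext i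
  simp [Matrix.mulVec, dotProduct, cycMat, Finset.sum_apply, mul_comm]

variable {g : Matrix (Fin n) (Fin n) F} {v : Fin n → F}

lemma cycMap_mk (hv : aeval g p *ᵥ v = 0) (b : F[X]) :
    cycMap hp g v (AdjoinRoot.mk p b) = aeval g b *ᵥ v := by
  show aeval g (AdjoinRoot.modByMonicHom hp (AdjoinRoot.mk p b)) *ᵥ v = _
  rw [AdjoinRoot.modByMonicHom_mk]
  conv_rhs => rw [← modByMonic_add_div b p, mul_comm p, map_add, map_mul, Matrix.add_mulVec,
    ← Matrix.mulVec_mulVec, hv, Matrix.mulVec_zero, add_zero]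

lemma cycMap_mk_mul (hv : aeval g p *ᵥ v = 0) (b : F[X]) (a : AdjoinRoot p) :
    cycMap hp g v (AdjoinRoot.mk p b * a) = aeval g b *ᵥ cycMap hp g v a := by
  obtain ⟨a, rfl⟩ := AdjoinRoot.mk_surjective a
  rw [← map_mul, cycMap_mk hp hv, cycMap_mk hp hv, map_mul, Matrix.mulVec_mulVec]

lemma mul_cycMat (hv : aeval g p *ᵥ v = 0) :
    g * cycMat hp hd g v = cycMat hp hd g v * cMat hp hd := by
  refine Matrix.ext_iff_mulVec.mpr fun c => ?_
  obtain ⟨a, rfl⟩ := (kBasis hp hd).equivFun.surjective c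
  have h1 : cMat hp hd *ᵥ (kBasis hp hd).equivFun a = (kBasis hp hd).equivFun (AdjoinRoot.root p * a) := by
    simpa [Module.Basis.equivFun_apply, cMat] using
      Algebra.leftMulMatrix_mulVec_repr (kBasis hp hd) (AdjoinRoot.root p) a
  rw [← Matrix.mulVec_mulVec, ← Matrix.mulVec_mulVec, h1, cycMat_mulVec, cycMat_mulVec,
    LinearEquiv.symm_apply_apply, LinearEquiv.symm_apply_apply,
    show AdjoinRoot.root p = AdjoinRoot.mk p X from rfl, cycMap_mk_mul hp hv, aeval_X]

lemma isUnit_det_pairing (hg : adj hF g * g = 1) (hi : Irreducible p) (hv : aeval g p *ᵥ v = 0)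
    {p' : F[X]} (hp' : p'.Monic) (hd' : p'.natDegree = d) {w : Fin n → F} (hw : aeval g p' *ᵥ w = 0)
    (hne : sdot q w v ≠ 0) :
    IsUnit (adj hF (cycMat hp' hd' g w) * cycMat hp hd g v).det := by
  rw [isUnit_iff_ne_zero]
  intro h0
  obtain ⟨c, hc0, hc⟩ := Matrix.exists_mulVec_eq_zero_iff.mpr h0
  rw [← Matrix.mulVec_mulVec] at hc
  haveI : Fact (Irreducible p) := ⟨hi⟩
  set a : AdjoinRoot p := (kBasis hp hd).equivFun.symm c with ha
  have ha0 : a ≠ 0 := fun h => hc0 (by
    have := congrArg (kBasis hp hd).equivFun h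
    rwa [ha, LinearEquiv.apply_symm_apply, map_zero] at this)
  have horth : ∀ z : AdjoinRoot p', sdot q (cycMap hp' g w z) (cycMap hp g v a) = 0 := by
    intro z
    obtain ⟨c', rfl⟩ := (kBasis hp' hd').equivFun.symm.surjective z
    rw [← cycMat_mulVec, ← cycMat_mulVec hp hd, sdot_mulVec hF, hc, dotProduct_zero]
  obtain ⟨b, hb⟩ := AdjoinRoot.mk_surjective a⁻¹
  apply hne
  have hv' : v = aeval g b *ᵥ cycMap hp g v a := by
    rw [← cycMap_mk_mul hp hv, hb, inv_mul_cancel₀ ha0, show (1 : AdjoinRoot p) = AdjoinRoot.mk p 1 from (map_one _).symm,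
      cycMap_mk hp hv, map_one, Matrix.one_mulVec]
  obtain ⟨r, hr⟩ := exists_adj_aeval_eq hF hg b
  conv_lhs => rw [hv']
  rw [show sdot q w (aeval g b *ᵥ cycMap hp g v a) = sdot q (adj hF (aeval g b) *ᵥ w) (cycMap hp g v a) by
    rw [sdot_adj hF, adj_adj], hr, ← cycMap_mk hp' hw]
  exact horth _

end Cyclic

omit [Fintype F] in
lemma commute_aeval_right {m : Type*} [Fintype m] [DecidableEq m] {B C : Matrix m m F}
    (h : Commute B C) (b : F[X]) : Commute B (aeval C b) := by
  induction b using Polynomial.induction_on' with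
  | add x y hx hy => rw [map_add]; exact hx.add_right hy
  | monomial k a =>
    rw [aeval_monomial, ← Algebra.smul_def]
    exact (h.pow_right k).smul_right a

lemma exists_unit_det {d : ℕ} {p : F[X]} (hp : p.Monic) (hd : p.natDegree = d) (hi : Irreducible p)
    {μ : F} (hμ : μ ≠ 0) :
    ∃ W : Matrix (Fin d) (Fin d) F, W.det = μ ∧ Commute (cMat hp hd) W ∧
      ∀ B : Matrix (Fin d) (Fin d) F, Commute B (cMat hp hd) → Commute B W := by
  haveI : Fact (Irreducible p) := ⟨hi⟩
  haveI : Module.Finite F (AdjoinRoot p) := Module.Finite.of_basis (kBasis hp hd)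
  haveI : Finite (AdjoinRoot p) := Module.finite_of_finite F
  obtain ⟨ω, hω⟩ := FiniteField.norm_surjective F (AdjoinRoot p) μ
  obtain ⟨b, hb⟩ := AdjoinRoot.mk_surjective ω
  have hW : Algebra.leftMulMatrix (kBasis hp hd) ω = aeval (cMat hp hd) b := by
    rw [cMat, aeval_algHom_apply, AdjoinRoot.aeval_eq, hb]
  refine ⟨Algebra.leftMulMatrix (kBasis hp hd) ω, ?_, ?_, fun B hB => ?_⟩
  · rw [← Algebra.norm_eq_matrix_det, hω]
  · rw [hW]; exact commute_aeval_right (Commute.refl _) b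
  · rw [hW]; exact commute_aeval_right hB b

/-- A nondegenerate cyclic subspace gives every determinant. -/
lemma exists_of_anisotropic {g : Matrix (Fin n) (Fin n) F} (hg : adj hF g * g = 1) {p : F[X]}
    (hp : p.Monic) (hi : Irreducible p) {z : Fin n → F} (hz : aeval g p *ᵥ z = 0) (hne : sdot q z z ≠ 0)
    {lam : F} (hl : lam * lam ^ q = 1) :
    ∃ u : Matrix (Fin n) (Fin n) F, adj hF u * u = 1 ∧ u * g = g * u ∧ u.det = lam := by
  obtain ⟨μ, hμ, hμl⟩ := exists_hilbert90 hF hl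
  obtain ⟨W, hWd, hCW, hW⟩ := exists_unit_det hp rfl hi hμ
  set Z := cycMat hp rfl g z with hZ
  set C := cMat hp rfl with hC
  set G := adj hF Z * Z with hGdef
  have hG : IsUnit G.det := isUnit_det_pairing hF hp rfl hg hi hz hp rfl hz hne
  have hgz : g * Z = Z * C := mul_cycMat hp rfl hz
  have hCG : adj hF C * G * C = G := by
    calc adj hF C * (adj hF Z * Z) * C = adj hF (Z * C) * (Z * C) := by
          rw [adj_mul]; simp only [Matrix.mul_assoc]
      _ = _ := by rw [← hgz, adj_mul, hGdef]; simp only [Matrix.mul_assoc, ← Matrix.mul_assoc (adj hF g) g, hg, Matrix.one_mul]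
  have hGs : adj hF G = G := by rw [hGdef, adj_mul, adj_adj]
  set W' := G⁻¹ * adj hF W * G with hW'
  have hW'd : W'.det = μ ^ q := by
    rw [hW', Matrix.det_mul, Matrix.det_mul, mul_right_comm, Matrix.det_nonsing_inv,
      Ring.inverse_mul_cancel _ hG, one_mul, det_adj, hWd]
  have hcomm' : Commute C W' := by
    have hCi : (G⁻¹ * adj hF C * G) * C = 1 := by
      rw [Matrix.mul_assoc, Matrix.mul_assoc, ← Matrix.mul_assoc (adj hF C) G C, hCG, Matrix.nonsing_inv_mul _ hG]
    have h2 : Commute (G⁻¹ * adj hF C * G) W' := by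
      show _ = _
      have h3 : adj hF C * adj hF W = adj hF W * adj hF C := by rw [← adj_mul, ← adj_mul, hCW.eq]
      simp only [hW', Matrix.mul_assoc, ← Matrix.mul_assoc G G⁻¹, Matrix.mul_nonsing_inv _ hG, Matrix.one_mul]
      rw [← Matrix.mul_assoc (adj hF C), h3, Matrix.mul_assoc]
    exact Commute.units_inv_left_iff (u := ⟨C, _, mul_eq_one_comm.mp hCi, hCi⟩) |>.mp h2
  have hWW' : Commute W' W := hW W' hcomm'.symm
  have hW'u : IsUnit W'.det := by rw [hW'd]; exact (IsUnit.mk0 _ hμ).pow q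
  have hWu : IsUnit W.det := by rw [hWd]; exact IsUnit.mk0 _ hμ
  have hGW : G * W' = adj hF W * G := by
    rw [hW', ← Matrix.mul_assoc G (G⁻¹ * adj hF W) G, ← Matrix.mul_assoc G G⁻¹ (adj hF W),
      Matrix.mul_nonsing_inv _ hG, Matrix.one_mul]
  obtain ⟨u, hu1, hu2, hu3⟩ := exists_commute_of_frame hF hg Z C hgz hG (W * W'⁻¹) (by
      have h1 : Commute (W * W'⁻¹) C := by
        refine Commute.mul_left hCW.symm ?_
        let U : (Matrix (Fin p.natDegree) (Fin p.natDegree) F)ˣ :=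
          ⟨W', W'⁻¹, Matrix.mul_nonsing_inv _ hW'u, Matrix.nonsing_inv_mul _ hW'u⟩
        exact Commute.units_inv_left (u := U) hcomm'.symm
      exact h1.eq) (by
      have hGW' : adj hF W' * G = G * W := by
        have := congrArg (adj hF) hGW
        rwa [adj_mul hF G W', adj_mul hF (adj hF W) G, hGs, adj_adj] at this
      have hWi : W * W'⁻¹ = W'⁻¹ * W := by
        let U : (Matrix (Fin p.natDegree) (Fin p.natDegree) F)ˣ :=
          ⟨W', W'⁻¹, Matrix.mul_nonsing_inv _ hW'u, Matrix.nonsing_inv_mul _ hW'u⟩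
        exact (Commute.units_inv_left (u := U) hWW').symm.eq
      have hW'a : IsUnit (adj hF W').det := by rw [det_adj]; exact hW'u.pow q
      have hinv : adj hF W'⁻¹ * adj hF W' = 1 := by rw [← adj_mul, Matrix.mul_nonsing_inv _ hW'u, adj_one]
      calc adj hF (W * W'⁻¹) * G * (W * W'⁻¹)
          = adj hF W'⁻¹ * (adj hF W * G) * (W * W'⁻¹) := by rw [adj_mul]; simp only [Matrix.mul_assoc]
        _ = adj hF W'⁻¹ * G * (W' * W * W'⁻¹) := by rw [← hGW]; simp only [Matrix.mul_assoc]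
        _ = adj hF W'⁻¹ * G * W := by
            rw [hWW'.eq, Matrix.mul_assoc W, Matrix.mul_nonsing_inv _ hW'u, Matrix.mul_one]
        _ = adj hF W'⁻¹ * (adj hF W' * G) := by rw [hGW', Matrix.mul_assoc]
        _ = G := by rw [← Matrix.mul_assoc, hinv, Matrix.one_mul])
  refine ⟨u, hu1, hu2, ?_⟩
  rw [hu3, Matrix.det_mul, Matrix.det_nonsing_inv, hWd, hW'd, Ring.inverse_eq_inv',
    eq_comm, eq_mul_inv_iff_mul_eq₀ (pow_ne_zero _ hμ)]
  exact hμl

/-- A pair of totally isotropic cyclic subspaces in duality gives every determinant. -/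
lemma exists_of_pair {g : Matrix (Fin n) (Fin n) F} (hg : adj hF g * g = 1) {d : ℕ} {p p' : F[X]}
    (hp : p.Monic) (hd : p.natDegree = d) (hi : Irreducible p) (hp' : p'.Monic) (hd' : p'.natDegree = d)
    {v w : Fin n → F} (hv : aeval g p *ᵥ v = 0) (hw : aeval g p' *ᵥ w = 0) (hne : sdot q w v ≠ 0)
    (hiv : ∀ x y : Fin n → F, aeval g p *ᵥ x = 0 → aeval g p *ᵥ y = 0 → sdot q x y = 0)
    (hiw : ∀ x y : Fin n → F, aeval g p' *ᵥ x = 0 → aeval g p' *ᵥ y = 0 → sdot q x y = 0)
    {lam : F} (hl : lam * lam ^ q = 1) :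
    ∃ u : Matrix (Fin n) (Fin n) F, adj hF u * u = 1 ∧ u * g = g * u ∧ u.det = lam := by
  obtain ⟨μ, hμ, hμl⟩ := exists_hilbert90 hF hl
  obtain ⟨W, hWd, hCW, -⟩ := exists_unit_det hp hd hi hμ
  set Zv := cycMat hp hd g v with hZv
  set Zw := cycMat hp' hd' g w with hZw
  set H := adj hF Zw * Zv with hHdef
  have hH : IsUnit H.det := isUnit_det_pairing hF hp hd hg hi hv hp' hd' hw hne
  have hzero : ∀ {e : F[X]} (he : e.Monic) (hed : e.natDegree = d) (x : Fin n → F), aeval g e *ᵥ x = 0 →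
      (∀ x y : Fin n → F, aeval g e *ᵥ x = 0 → aeval g e *ᵥ y = 0 → sdot q x y = 0) →
      adj hF (cycMat he hed g x) * cycMat he hed g x = 0 := by
    intro e he hed x hx hiso
    have hker : ∀ a, aeval g e *ᵥ cycMap he g x a = 0 := fun a => by
      rw [← cycMap_mk_mul he hx, AdjoinRoot.mk_self, zero_mul, map_zero]
    refine Matrix.ext_iff_mulVec.mpr fun c => funext fun i => ?_
    have h1 := hiso _ _ (hker ((kBasis he hed).equivFun.symm (Pi.single i 1))) (hker ((kBasis he hed).equivFun.symm c))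
    rw [← cycMat_mulVec, ← cycMat_mulVec, sdot_mulVec hF,
      show (fun k => (Pi.single i (1 : F) : Fin d → F) k ^ q) = Pi.single i 1 by
        funext k; rcases eq_or_ne k i with rfl | hk <;> simp [*, (q_pos hF).ne'],
      single_one_dotProduct, Matrix.mulVec_mulVec] at h1
    rw [h1, Matrix.zero_mulVec]; rfl
  set Z := Matrix.fromCols Zv Zw with hZdef
  have hG : adj hF Z * Z = Matrix.fromBlocks 0 (adj hF H) H 0 := by
    rw [hZdef, gram_fromCols hF, hzero hp hd v hv hiv, hzero hp' hd' w hw hiw, hHdef, adj_mul, adj_adj]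
  have hHa : IsUnit (adj hF H).det := by rw [det_adj]; exact hH.pow q
  have hGu : IsUnit (adj hF Z * Z).det := by
    rw [hG]
    refine Matrix.isUnit_det_of_right_inverse (B := Matrix.fromBlocks 0 H⁻¹ (adj hF H)⁻¹ 0) ?_
    simp [Matrix.fromBlocks_multiply, Matrix.mul_nonsing_inv _ hH, Matrix.mul_nonsing_inv _ hHa]
  set C := cMat hp hd with hCdef
  set C' := cMat hp' hd' with hC'def
  have hgZ : g * Z = Z * Matrix.fromBlocks C 0 0 C' := by
    rw [hZdef, Matrix.mul_fromCols, Matrix.fromCols_mul_fromBlocks, mul_cycMat hp hd hv, mul_cycMat hp' hd' hw]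
    simp [hZv, hZw, hCdef, hC'def]
  have hCHC : adj hF C' * H * C = H := by
    calc adj hF C' * (adj hF Zw * Zv) * C = adj hF (Zw * C') * (Zv * C) := by
          rw [adj_mul]; simp only [Matrix.mul_assoc]
      _ = _ := by
          rw [hZw, hZv, hC'def, hCdef, ← mul_cycMat hp hd hv, ← mul_cycMat hp' hd' hw, adj_mul, hHdef]
          simp only [Matrix.mul_assoc, ← Matrix.mul_assoc (adj hF g) g, hg, Matrix.one_mul, ← hZw, ← hZv]
  have hWu : IsUnit W.det := by rw [hWd]; exact IsUnit.mk0 _ hμ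
  have hinv : adj hF H⁻¹ * adj hF H = 1 := by rw [← adj_mul, Matrix.mul_nonsing_inv _ hH, adj_one]
  set Y := H * W⁻¹ * H⁻¹ with hY
  have hYH : Y * H * W = H := by
    rw [hY, Matrix.mul_assoc (H * W⁻¹), Matrix.nonsing_inv_mul _ hH, Matrix.mul_one, Matrix.mul_assoc,
      Matrix.nonsing_inv_mul _ hWu, Matrix.mul_one]
  have hYC : adj hF C' * Y = Y * adj hF C' := by
    have h1 : adj hF C' * H = H * (C⁻¹) := by
      have hCu : IsUnit C.det := by
        have := congrArg Matrix.det hCHC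
        rw [Matrix.det_mul] at this
        exact isUnit_of_mul_isUnit_right (this ▸ hH)
      calc adj hF C' * H = adj hF C' * H * (C * C⁻¹) := by rw [Matrix.mul_nonsing_inv _ hCu, Matrix.mul_one]
        _ = _ := by rw [← Matrix.mul_assoc, hCHC]
    have h2 : adj hF C' = H * C⁻¹ * H⁻¹ := by
      rw [← h1, Matrix.mul_assoc, Matrix.mul_nonsing_inv _ hH, Matrix.mul_one]
    have h3 : C⁻¹ * W⁻¹ = W⁻¹ * C⁻¹ := by rw [← Matrix.mul_inv_rev, ← Matrix.mul_inv_rev, hCW.eq]
    have h4 : ∀ a b : Matrix (Fin d) (Fin d) F, H * a * H⁻¹ * (H * b * H⁻¹) = H * (a * b) * H⁻¹ := by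
      intro a b
      generalize H = H₀ at hH
      rw [Matrix.mul_assoc H₀ b, ← Matrix.mul_assoc (H₀ * a * H₀⁻¹) H₀, Matrix.mul_assoc (H₀ * a) H₀⁻¹ H₀,
        Matrix.nonsing_inv_mul _ hH, Matrix.mul_one, ← Matrix.mul_assoc (H₀ * a) b, Matrix.mul_assoc H₀ a b]
    rw [h2, hY, h4, h4, h3]
  obtain ⟨u, hu1, hu2, hu3⟩ := exists_commute_of_frame hF hg Z _ hgZ hGu
    (Matrix.fromBlocks W 0 0 (adj hF Y)) (by
      have := congrArg (adj hF) hYC
      rw [adj_mul hF (adj hF C') Y, adj_mul hF Y (adj hF C'), adj_adj] at this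
      simp only [Matrix.fromBlocks_multiply, Matrix.zero_mul, Matrix.mul_zero, add_zero, zero_add]
      rw [hCW.eq, this]) (by
      rw [hG, show adj hF (Matrix.fromBlocks W 0 0 (adj hF Y)) = Matrix.fromBlocks (adj hF W) 0 0 Y by
        ext i j; rcases i with i | i <;> rcases j with j | j <;>
          simp [adj, Matrix.fromBlocks, pow_q_q hF, (q_pos hF).ne'],
        Matrix.fromBlocks_multiply, Matrix.fromBlocks_multiply]
      simp only [Matrix.zero_mul, Matrix.mul_zero, add_zero, zero_add]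
      have h4 := congrArg (adj hF) hYH
      rw [adj_mul, adj_mul] at h4
      rw [hYH, Matrix.mul_assoc (adj hF W), h4])
  refine ⟨u, hu1, hu2, ?_⟩
  rw [hu3, Matrix.det_fromBlocks_zero₂₁, det_adj, hY, Matrix.det_mul, Matrix.det_mul,
    mul_right_comm H.det, Matrix.det_nonsing_inv, Matrix.det_nonsing_inv, Ring.mul_inverse_cancel _ hH,
    one_mul, hWd, Ring.inverse_eq_inv', inv_pow, eq_comm, eq_mul_inv_iff_mul_eq₀ (pow_ne_zero _ hμ)]
  exact hμl

include hF in
/-- An elementary divisor of exponent one gives every determinant in the centralizer. -/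
theorem exists_det_centralizer {g : GL (Fin n) F} (hg : g ∈ Cfsg.GU n F q) (s : H41.EDiv F n)
    (hs : ConjClasses.mk g = H41.glClassEquiv s) (x : F[X] × ℕ) (hx : x ∈ s.1) (hx1 : x.2 = 1)
    {lam : F} (hl : lam * lam ^ q = 1) :
    ∃ u : GL (Fin n) F, u ∈ Cfsg.GU n F q ∧ u * g = g * u ∧
      (u : Matrix (Fin n) (Fin n) F).det = lam := by
  classical
  obtain ⟨hp, hi, hX, -⟩ := s.2.1 x hx
  obtain ⟨p, e⟩ := x
  simp only at hx1 hp hi hX
  subst hx1
  set M : Matrix (Fin n) (Fin n) F := (g : Matrix (Fin n) (Fin n) F) with hMdef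
  have hA : adj hF M * M = 1 := (mem_GU_iff hF g).mp hg
  have h0 := H41.coeff_zero_ne_of_irreducible hp hi hX
  set P := aeval M p with hP
  have hnot : ¬ LinearMap.ker (Matrix.toLin' P) ≤ LinearMap.range (Matrix.toLin' P) := by
    intro hle
    set L := Matrix.toLin' P
    have hr : LinearMap.range (L.domRestrict (LinearMap.ker (L ∘ₗ L))) = LinearMap.ker L := by
      ext y
      simp only [LinearMap.mem_range, LinearMap.mem_ker, LinearMap.domRestrict_apply]
      constructor
      · rintro ⟨⟨z, hz⟩, rfl⟩; exact hz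
      · intro hy
        obtain ⟨z, rfl⟩ := hle (show y ∈ LinearMap.ker L from hy)
        exact ⟨⟨z, hy⟩, rfl⟩
    have hk : LinearMap.ker (L.domRestrict (LinearMap.ker (L ∘ₗ L))) =
        (LinearMap.ker L).comap (LinearMap.ker (L ∘ₗ L)).subtype := rfl
    have h1 := LinearMap.finrank_range_add_finrank_ker (L.domRestrict (LinearMap.ker (L ∘ₗ L)))
    rw [hr, hk, (Submodule.comapSubtypeEquivOfLe (LinearMap.ker_le_ker_comp L L)).finrank_eq] at h1
    have h2 : L ∘ₗ L = Matrix.toLin' (aeval M (p ^ 2)) := by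
      rw [pow_two, map_mul, Matrix.toLin'_mul]
    have h3 : L = Matrix.toLin' (aeval M (p ^ 1)) := by rw [pow_one]
    rw [h2, h3, hMdef, finrank_ker_matrix g s hs p hp hi, finrank_ker_matrix g s hs p hp hi] at h1
    have h4 := H41.kerDim_count s.1 p 0
    have h5 : H41.kerDim s.1 p 0 = 0 := by simp [H41.kerDim]
    have h6 : 0 < s.1.count (p, 0 + 1) := Multiset.count_pos.mpr hx
    have h7 : 0 < p.natDegree * s.1.count (p, 0 + 1) := Nat.mul_pos hi.natDegree_pos h6
    simp only [h5, zero_add] at h4 h7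
    omega
  obtain ⟨v, hv, hvr⟩ := SetLike.not_le_iff_exists.mp hnot
  obtain ⟨φ, hφv, hφ⟩ := Submodule.exists_dual_map_eq_bot_of_notMem hvr inferInstance
  set y : Fin n → F := fun i => φ (Pi.single i 1) with hy
  have hφy : ∀ z, φ z = y ⬝ᵥ z := fun z => by
    conv_lhs => rw [pi_eq_sum_univ' z, map_sum]
    refine Finset.sum_congr rfl fun i _ => ?_
    rw [map_smul, smul_eq_mul, mul_comm, hy]
  set w : Fin n → F := fun i => y i ^ q with hwdef
  have hwy : ∀ z, sdot q w z = φ z := fun z => by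
    rw [hφy, sdot]; simp only [hwdef, pow_q_q hF]
  have hPv : P *ᵥ v = 0 := hv
  have hne : sdot q w v ≠ 0 := by rw [hwy]; exact hφv
  have hw : aeval M (urev hF p) *ᵥ w = 0 := by
    rw [mulVec_urev_eq_zero_iff hF hA p h0]
    funext i
    have h := hwy (P *ᵥ Pi.single i 1)
    rw [show φ (P *ᵥ Pi.single i 1) = 0 by
      have hmem : φ (P *ᵥ Pi.single i 1) ∈ (LinearMap.range (Matrix.toLin' P)).map φ :=
        ⟨_, ⟨_, rfl⟩, rfl⟩
      rwa [hφ, Submodule.mem_bot] at hmem,
      show sdot q w (P *ᵥ Pi.single i 1) = sdot q (adj hF P *ᵥ w) (Pi.single i 1) by rw [sdot_adj hF, adj_adj],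
      sdot, dotProduct_single, mul_one] at h
    exact pow_eq_zero_iff (q_pos hF).ne' |>.mp h
  suffices h : ∃ u : Matrix (Fin n) (Fin n) F, adj hF u * u = 1 ∧ u * M = M * u ∧ u.det = lam by
    obtain ⟨u, hu1, hu2, hu3⟩ := h
    exact ⟨mkGL hF u hu1, mkGL_mem hF u hu1, Units.ext hu2, hu3⟩
  have hp'i := irreducible_urev hF hp hi h0
  have hp'm := monic_urev hF h0
  by_cases heq : urev hF p = p
  · -- some vector of the kernel is anisotropic
    rw [heq] at hw
    by_contra hcon
    push Not at hcon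
    have hz : ∀ z, P *ᵥ z = 0 → sdot q z z = 0 := by
      intro z hz
      by_contra hne'
      obtain ⟨u, h1, h2, h3⟩ := exists_of_anisotropic hF hA hp hi hz hne' hl
      exact hcon u h1 h2 h3
    obtain ⟨θ, -, hθ⟩ := exists_theta hF
    have hlin : ∀ c : F, sdot q (w + c • v) (w + c • v) = 0 := fun c => hz _ (by
      rw [Matrix.mulVec_add, Matrix.mulVec_smul, hPv, smul_zero, add_zero]; exact hw)
    have hexp : ∀ c : F, c * sdot q w v + c ^ q * sdot q v w = 0 := by
      intro c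
      have h := hlin c
      have e : sdot q (w + c • v) (w + c • v) =
          sdot q w w + c * sdot q w v + c ^ q * sdot q v w + c ^ q * c * sdot q v v := by
        simp only [sdot, dotProduct, Pi.add_apply, Pi.smul_apply, smul_eq_mul, add_pow_q hF, mul_pow]
        simp only [Finset.mul_sum, ← Finset.sum_add_distrib]
        exact Finset.sum_congr rfl fun i _ => by ring
      rw [e, hz w hw, hz v hPv] at h
      linear_combination h
    have h1 := hexp 1
    have h2 := hexp θ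
    rw [one_pow, one_mul, one_mul] at h1
    refine hne (mul_left_cancel₀ hθ ?_)
    rw [mul_zero]
    linear_combination h2 - θ ^ q * h1
  · have hcop : IsCoprime p (urev hF p) :=
      hi.coprime_iff_not_dvd.mpr fun h => heq (eq_of_monic_of_associated hp'm hp
        ((hi.associated_of_dvd hp'i h).symm))
    have hiso : ∀ {a : F[X]}, a.coeff 0 ≠ 0 → IsCoprime a (urev hF a) →
        ∀ x y : Fin n → F, aeval M a *ᵥ x = 0 → aeval M a *ᵥ y = 0 → sdot q x y = 0 := by
      rintro a ha0 ⟨b, c, hbc⟩ x y hx hy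
      have hy' : y = aeval M (urev hF a) *ᵥ (aeval M c *ᵥ y) := by
        have := congrArg (fun f : F[X] => aeval M f *ᵥ y) hbc
        simp only [map_add, map_mul, map_one, Matrix.add_mulVec, Matrix.one_mulVec] at this
        rw [← Matrix.mulVec_mulVec y (aeval M b), hy, Matrix.mulVec_zero, zero_add] at this
        rw [Matrix.mulVec_mulVec, ← map_mul, mul_comm, map_mul, this]
      have hadj : adj hF (aeval M (urev hF a)) *ᵥ x = 0 := by
        rw [adj_aeval_urev hF hA a ha0, adj_smul, adj_mul, adj_adj, Matrix.smul_mulVec, ← Matrix.mulVec_mulVec, hx,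
          Matrix.mulVec_zero, smul_zero]
      conv_lhs => rw [hy']
      rw [show ∀ B : Matrix (Fin n) (Fin n) F, ∀ z, sdot q x (B *ᵥ z) = sdot q (adj hF B *ᵥ x) z from
        fun B z => by rw [sdot_adj hF, adj_adj], hadj]
      simp [sdot, dotProduct, (q_pos hF).ne']
    refine exists_of_pair hF hA hp rfl hi hp'm (natDegree_urev hF h0) hPv hw hne (hiso h0 hcop) (hiso
      (coeff_zero_urev_ne hF hp h0) ?_) hl
    rw [urev_urev hF hp h0]
    exact hcop.symm

end H51.SUClasses
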