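import Mathlib

/-! Upper estimates for the numbers of self-reciprocal polynomial sequences. -/

set_option autoImplicit false

open Finset

namespace H51.SUClasses

/-- The number of monic twisted self-reciprocal polynomials of degree `d`. -/
def fA (q d : ℕ) : ℕ := if d = 0 then 1 else (q + 1) * q ^ (d - 1)

/-- The number of sequences of length `m`, the `j`th entry having weight `j + 1 + s`. -/
def tNum (q s : ℕ) : ℕ → ℕ → ℕ
  | 0, n => if n = 0 then 1 else 0
  | m + 1, n => ∑ d ∈ range (n / (m + 1 + s) + 1), fA q d * tNum q s m (n - (m + 1 + s) * d)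

lemma fA_succ (q d : ℕ) : fA q (d + 1) = (if d = 0 then 1 else 0) + q * fA q d := by
  rcases Nat.eq_zero_or_pos d with rfl | hd
  · simp [fA, add_comm]
  · obtain ⟨k, rfl⟩ : ∃ k, d = k + 1 := ⟨d - 1, by omega⟩
    simp [fA]; ring

lemma tNum_succ_of_lt (q s m n : ℕ) (h : n < m + 1 + s) : tNum q s (m + 1) n = tNum q s m n := by
  rw [tNum, Nat.div_eq_of_lt h]
  simp [fA]

lemma tNum_rec (q s m n : ℕ) (h : m + 1 + s ≤ n) :
    tNum q s (m + 1) n =
      tNum q s m n + tNum q s m (n - (m + 1 + s)) + q * tNum q s (m + 1) (n - (m + 1 + s)) := by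
  rw [tNum, tNum]
  obtain ⟨j, hj⟩ : ∃ j, j = m + 1 + s := ⟨_, rfl⟩
  rw [← hj] at h ⊢
  rw [show n / j = (n - j) / j + 1 from Nat.div_eq_sub_div (by omega) h, sum_range_succ', mul_sum]
  have hterm : ∀ d, fA q (d + 1) * tNum q s m (n - j * (d + 1)) =
      (if d = 0 then tNum q s m (n - j) else 0) + q * (fA q d * tNum q s m (n - j - j * d)) := by
    intro d
    rw [fA_succ, Nat.sub_sub, mul_add_one, add_comm (j * d), add_mul, mul_assoc]
    split_ifs with hd
    · subst hd; simp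
    · simp
  rw [sum_congr rfl (fun d _ => hterm d), sum_add_distrib, sum_ite_eq' (range _) 0 (fun _ => _)]
  simp [fA]
  ring

lemma tNum_mono (q s m n : ℕ) : tNum q s m n ≤ tNum q s (m + 1) n := by
  rw [tNum.eq_2, sum_range_succ']
  simp [fA]

lemma tNum_stable (q s m₀ m n : ℕ) (hm : m₀ ≤ m) (hn : n < m₀ + 1 + s) :
    tNum q s m n = tNum q s m₀ n := by
  induction m, hm using Nat.le_induction with
  | base => rfl
  | succ k hk ih => rw [tNum_succ_of_lt q s k n (by omega), ih]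

lemma tNum_one_le (q s n : ℕ) : tNum q s 1 n ≤ fA q (n / (1 + s)) := by
  rw [tNum]
  refine le_of_le_of_eq (sum_le_sum (g := fun d => if d = n / (1 + s) then fA q d else 0) fun d hd => ?_)
    (by rw [sum_ite_eq' (range _) _ (fA q), if_pos (by simp)])
  rw [tNum]
  rw [mem_range] at hd
  split_ifs with h1 h2 h3
  · simp
  · exfalso
    have h4 : d ≤ n / (1 + s) := by simpa using Nat.lt_succ_iff.mp hd
    have h5 : n ≤ (1 + s) * d := by simpa [Nat.sub_eq_zero_iff_le] using h1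
    exact h2 (le_antisymm h4 (Nat.div_le_of_le_mul h5))
  · simp
  · simp

/-- One more entry in a geometric bound with weight `r`. -/
lemma tNum_step (q s m N₀ : ℕ) (r A A' M x : ℝ) (hr : 1 ≤ r) (hA : 0 ≤ A) (hM : 0 ≤ M)
    (hx : x * r ^ (m + 1 + s) = 1) (hqx : q * x < 1)
    (h1 : ∀ n, N₀ ≤ n → (tNum q s m n : ℝ) ≤ A * r ^ n)
    (h2 : ∀ i, i < N₀ → (tNum q s m i : ℝ) + q * (tNum q s (m + 1) i : ℝ) ≤ M * r ^ i)
    (hA' : (A + M * x) * (1 + x) ≤ A' * (1 - q * x)) :
    ∀ n, N₀ ≤ n → (tNum q s (m + 1) n : ℝ) ≤ A' * r ^ n := by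
  have hr0 : 0 < r := one_pos.trans_le hr
  have hx0 : 0 < x := (pos_iff_pos_of_mul_pos (hx.symm ▸ one_pos : 0 < x * r ^ (m + 1 + s))).mpr (by positivity)
  have hqx0 : 0 ≤ (q : ℝ) * x := by positivity
  have hMx : 0 ≤ M * x := by positivity
  have hA'0 : 0 ≤ A' := by
    have : 0 ≤ A' * (1 - q * x) := le_trans (by positivity) hA'
    exact nonneg_of_mul_nonneg_left this (by linarith)
  have hAA : A + M * x ≤ A' := by nlinarith
  intro n
  induction n using Nat.strong_induction_on with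
  | _ n IH =>
    intro hn
    have hb := h1 n hn
    rcases Nat.lt_or_ge n (m + 1 + s) with hlt | hge
    · rw [tNum_succ_of_lt q s m n hlt]
      exact hb.trans (mul_le_mul_of_nonneg_right (by linarith) (by positivity))
    · obtain ⟨i, rfl⟩ : ∃ i, n = i + (m + 1 + s) := ⟨n - (m + 1 + s), by omega⟩
      rw [tNum_rec q s m _ hge, Nat.add_sub_cancel]
      push_cast
      have hri : r ^ i = x * r ^ (i + (m + 1 + s)) := by rw [pow_add, mul_left_comm, hx, mul_one]
      have hP : 0 ≤ r ^ (i + (m + 1 + s)) := by positivity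
      rcases Nat.lt_or_ge i N₀ with hi | hi
      · have := h2 i hi
        rw [hri] at this
        nlinarith
      · have h3 := IH i (by omega) hi
        have h4 := h1 i hi
        have h5 : (q : ℝ) * (tNum q s (m + 1) i : ℝ) ≤ q * (A' * r ^ i) :=
          mul_le_mul_of_nonneg_left h3 (by positivity)
        rw [hri] at h4 h5
        have h6 : A + A * x + q * A' * x ≤ A' := by nlinarith
        have h7 := mul_le_mul_of_nonneg_right h6 hP
        linarith

/-- All remaining entries at once. -/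
lemma tNum_tail (q s m₀ N₀ : ℕ) (r A₀ M S : ℝ) (hq : 1 ≤ q) (hr : 1 < r) (hA : 0 ≤ A₀) (hM : 0 ≤ M)
    (hS : S * (r - 1) * r ^ (m₀ + s) = 1) (hqS : q * S < 1)
    (h1 : ∀ n, N₀ ≤ n → (tNum q s m₀ n : ℝ) ≤ A₀ * r ^ n)
    (h2 : ∀ m, m₀ ≤ m → ∀ i, i < N₀ → (tNum q s m i : ℝ) + q * (tNum q s (m + 1) i : ℝ) ≤ M * r ^ i)
    (m : ℕ) (hm : m₀ ≤ m) :
    ∀ n, N₀ ≤ n → (tNum q s m n : ℝ) ≤ (A₀ + M * S) / ((1 - S) * (1 - q * S)) * r ^ n := by
  have hr0 : 0 < r := one_pos.trans hr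
  have hq' : (1 : ℝ) ≤ q := by exact_mod_cast hq
  have hS0 : 0 < S := (pos_iff_pos_of_mul_pos (by rw [← mul_assoc, hS]; exact one_pos : 0 < S * ((r - 1) * r ^ (m₀ + s)))).mpr
    (mul_pos (by linarith) (by positivity))
  set T : ℕ → ℝ := fun k => S * (1 - (r⁻¹) ^ k) with hT
  have hri : r⁻¹ < 1 := inv_lt_one_of_one_lt₀ hr
  have hTle : ∀ k, 0 ≤ T k ∧ T k ≤ S := fun k => by
    have h0 : 0 ≤ (r⁻¹) ^ k := by positivity
    have h1 : (r⁻¹) ^ k ≤ 1 := pow_le_one₀ (by positivity) hri.le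
    constructor <;> simp only [hT] <;> nlinarith
  have key : ∀ k, ∀ n, N₀ ≤ n → (tNum q s (m₀ + k) n : ℝ) ≤
      (A₀ + M * T k) / ((1 - T k) * (1 - q * T k)) * r ^ n := by
    intro k
    induction k with
    | zero => simpa [hT] using h1
    | succ k ih =>
      set x : ℝ := T (k + 1) - T k with hxdef
      have hx : x * r ^ (m₀ + k + 1 + s) = 1 := by
        rw [← hS, hxdef, hT, show m₀ + k + 1 + s = (m₀ + s) + (k + 1) by omega, pow_add]
        simp only [inv_pow, pow_succ]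
        field_simp
        ring
      have hx0 : 0 ≤ x := by
        have := (pos_iff_pos_of_mul_pos (hx.symm ▸ one_pos : 0 < x * r ^ (m₀ + k + 1 + s))).mpr (by positivity)
        exact this.le
      obtain ⟨hk0, hkS⟩ := hTle k
      obtain ⟨hl0, hlS⟩ := hTle (k + 1)
      have hSq : S ≤ q * S := le_mul_of_one_le_left hS0.le hq'
      have e1 : (q : ℝ) * T (k + 1) ≤ q * S := mul_le_mul_of_nonneg_left hlS (by positivity)
      have e2 : (q : ℝ) * T k ≤ q * S := mul_le_mul_of_nonneg_left hkS (by positivity)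
      have e3 : (q : ℝ) * x ≤ q * S := mul_le_mul_of_nonneg_left (by linarith) (by positivity)
      have d1 : 0 < (1 - T k) * (1 - q * T k) := mul_pos (by linarith) (by linarith)
      have d2 : 0 < (1 - T (k + 1)) * (1 - q * T (k + 1)) := mul_pos (by linarith) (by linarith)
      refine tNum_step q s (m₀ + k) N₀ r _ _ M x hr.le (div_nonneg (by positivity) d1.le) hM hx
        (lt_of_le_of_lt e3 hqS) ih (h2 _ (by omega)) ?_
      have hT1 : T (k + 1) = T k + x := by rw [hxdef]; ring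
      have hd : (1 - T k) * (1 - q * T k) ≤ 1 := mul_le_one₀ (by linarith) (by linarith)
        (by have : 0 ≤ (q : ℝ) * T k := by positivity
            linarith)
      rw [hT1] at d2 ⊢
      have ha : (1 + x) * (1 - (T k + x)) ≤ 1 - T k := by
        nlinarith only [mul_nonneg hx0 hk0, mul_nonneg hx0 hx0]
      have hb : 1 - q * (T k + x) ≤ (1 - q * T k) * (1 - q * x) := by
        have : 0 ≤ (q : ℝ) * T k * (q * x) := by positivity
        nlinarith only [this]
      have hab := mul_le_mul ha hb (by linarith [hT1 ▸ e1]) (by linarith)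
      calc ((A₀ + M * T k) / ((1 - T k) * (1 - q * T k)) + M * x) * (1 + x)
          ≤ (A₀ + M * (T k + x)) / ((1 - T k) * (1 - q * T k)) * (1 + x) := by
            refine mul_le_mul_of_nonneg_right ?_ (by linarith)
            rw [div_add' _ _ _ d1.ne']
            exact div_le_div_of_nonneg_right (by nlinarith only [hd, mul_nonneg hM hx0]) d1.le
        _ ≤ _ := by
            rw [div_mul_eq_mul_div, div_mul_eq_mul_div, div_le_div_iff₀ d1 d2, mul_assoc, mul_assoc]
            refine mul_le_mul_of_nonneg_left ?_ (add_nonneg hA (mul_nonneg hM (by linarith)))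
            linarith only [hab]
  obtain ⟨k, rfl⟩ : ∃ k, m = m₀ + k := ⟨m - m₀, by omega⟩
  intro n hn
  obtain ⟨hk0, hkS⟩ := hTle k
  have hSq : S ≤ q * S := le_mul_of_one_le_left hS0.le hq'
  have e2 : (q : ℝ) * T k ≤ q * S := mul_le_mul_of_nonneg_left hkS (by positivity)
  refine (key k n hn).trans (mul_le_mul_of_nonneg_right ?_ (by positivity))
  refine div_le_div₀ (by positivity) (by nlinarith) (mul_pos (by linarith) (by linarith)) ?_
  exact mul_le_mul (by linarith) (by linarith) (by linarith) (by linarith)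

lemma fA_le (q d : ℕ) (hq : 1 ≤ q) : (fA q d : ℝ) ≤ (1 + 1 / (q : ℝ)) * (q : ℝ) ^ d := by
  have hq0 : (0 : ℝ) < q := by exact_mod_cast hq
  rcases Nat.eq_zero_or_pos d with rfl | hd
  · simp [fA]
  · obtain ⟨k, rfl⟩ : ∃ k, d = k + 1 := ⟨d - 1, by omega⟩
    simp only [fA, Nat.succ_ne_zero, if_false, Nat.add_sub_cancel]
    push_cast
    rw [pow_succ]
    field_simp
    exact le_refl _

lemma bound_three_or_more (q n : ℕ) (hq : 3 ≤ q) (hn : 4 ≤ n) :
    ((tNum q 0 n n : ℝ) + q * (q + 2) * tNum q 1 (n - 1) n) ≤ 826 / 100 * (q + 1) / q * (q : ℝ) ^ n := by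
  have hq3 : (3 : ℝ) ≤ q := by exact_mod_cast hq
  have hq0 : (0 : ℝ) < q := by linarith
  have hU1 : ∀ i, 0 ≤ i → (tNum q 0 1 i : ℝ) ≤ (1 + 1 / (q : ℝ)) * (q : ℝ) ^ i := fun i _ => by
    refine le_trans (Nat.cast_le.mpr (tNum_one_le q 0 i)) ?_
    simpa using fA_le q i (by omega)
  set A₂ : ℝ := (1 + 1 / q) * (1 + 1 / q ^ 2) / (1 - 1 / q) with hA₂
  have h1q : (0 : ℝ) < 1 - 1 / q := by
    rw [sub_pos, div_lt_one hq0]; linarith
  have hU2 := tNum_step q 0 1 0 (q : ℝ) (1 + 1 / q) A₂ 0 (1 / (q : ℝ) ^ 2) (by linarith) (by positivity)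
    le_rfl (by field_simp) (by field_simp; linarith) hU1 (fun i h => absurd h (Nat.not_lt_zero i))
    (le_of_eq (by
      have e : (q : ℝ) * (1 / (q : ℝ) ^ 2) = 1 / q := by field_simp
      rw [e, hA₂, div_mul_cancel₀ _ h1q.ne']
      ring))
  set S : ℝ := 1 / ((q : ℝ) ^ 2 * (q - 1)) with hS
  have hS' : S * ((q : ℝ) - 1) * (q : ℝ) ^ 2 = 1 := by
    have : (q : ℝ) - 1 ≠ 0 := by linarith
    rw [hS]; field_simp
  have hS0 : 0 < S := by
    have : (0 : ℝ) < q - 1 := by linarith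
    rw [hS]; positivity
  have hS18 : S ≤ 1 / 18 := by
    rw [hS, div_le_div_iff₀ (mul_pos (by positivity) (by linarith)) (by norm_num)]
    nlinarith
  have hqS6 : q * S ≤ 1 / 6 := by
    rw [hS, mul_one_div, div_le_div_iff₀ (mul_pos (by positivity) (by linarith)) (by norm_num)]
    nlinarith
  have hU := tNum_tail q 0 2 0 (q : ℝ) A₂ 0 S (by omega) (by linarith) (by rw [hA₂]; positivity) le_rfl
    (by simpa using hS') (by linarith) hU2 (fun m _ i h => absurd h (Nat.not_lt_zero i)) n (by omega) n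
    (Nat.zero_le n)
  set A₀ : ℝ := (q + 1) / (q : ℝ) ^ 3 with hA₀
  have hL1 : ∀ i, 4 ≤ i → (tNum q 1 1 i : ℝ) ≤ A₀ * (q : ℝ) ^ i := by
    intro i hi
    refine le_trans (Nat.cast_le.mpr (tNum_one_le q 1 i)) ?_
    simp only [fA, Nat.reduceAdd]
    rw [if_neg (by omega), hA₀]
    obtain ⟨k, rfl⟩ : ∃ k, i = k + 3 := ⟨i - 3, by omega⟩
    push_cast
    rw [pow_add, div_mul_eq_mul_div, mul_comm ((q : ℝ) ^ k), ← mul_assoc, mul_comm ((q : ℝ) + 1) ((q : ℝ) ^ 3),
      mul_assoc, mul_div_cancel_left₀ _ (by positivity : (q : ℝ) ^ 3 ≠ 0)]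
    exact mul_le_mul_of_nonneg_left (pow_le_pow_right₀ (by linarith) (by omega)) (by positivity)
  have hL2 : ∀ m, 1 ≤ m → ∀ i, i < 4 →
      (tNum q 1 m i : ℝ) + q * (tNum q 1 (m + 1) i : ℝ) ≤ (1 + q) * (q : ℝ) ^ i := by
    intro m hm i hi
    have key : ∀ m, 1 ≤ m → (tNum q 1 m i : ℝ) ≤ (q : ℝ) ^ i := by
      intro m hm
      have h : tNum q 1 m i ≤ tNum q 1 2 i := by
        rcases Nat.lt_or_ge m 2 with h | h
        · obtain rfl : m = 1 := by omega
          exact tNum_mono q 1 1 i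
        · rw [tNum_stable q 1 2 m i h (by omega)]
      refine le_trans (Nat.cast_le.mpr h) ?_
      interval_cases i <;> simp [tNum, fA, sum_range_succ] <;> nlinarith
    have a := key m hm
    have b := key (m + 1) (by omega)
    have := mul_le_mul_of_nonneg_left b hq0.le
    linarith
  have hL := tNum_tail q 1 1 4 (q : ℝ) A₀ (1 + q) S (by omega) (by linarith) (by positivity) (by positivity)
    hS' (by linarith) hL1 hL2 (n - 1) (by omega) n hn
  set D : ℝ := (1 - S) * (1 - q * S) with hD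
  have hDlb : 85 / 108 ≤ D := by
    rw [hD]
    calc (85 : ℝ) / 108 = (17 / 18) * (5 / 6) := by norm_num
      _ ≤ _ := mul_le_mul (by linarith) (by linarith) (by norm_num) (by linarith)
  have hP : (0 : ℝ) ≤ (q : ℝ) ^ n := by positivity
  calc (tNum q 0 n n : ℝ) + q * (q + 2) * tNum q 1 (n - 1) n
      ≤ (A₂ + 0 * S) / D * (q : ℝ) ^ n + q * (q + 2) * ((A₀ + (1 + q) * S) / D * (q : ℝ) ^ n) :=
        add_le_add hU (mul_le_mul_of_nonneg_left hL (by positivity))
    _ = ((A₂ + q * (q + 2) * (A₀ + (1 + q) * S)) / D) * (q : ℝ) ^ n := by ring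
    _ ≤ _ := by
      refine mul_le_mul_of_nonneg_right ((div_le_iff₀ (by linarith)).mpr ?_) hP
      refine le_trans ?_ (mul_le_mul_of_nonneg_left hDlb (by positivity))
      have hq1 : (0 : ℝ) < q - 1 := by linarith
      have e1 : ((q : ℝ) ^ 2 + 1) / (q * (q - 1)) ≤ 5 / 3 := by
        rw [div_le_div_iff₀ (by positivity) (by norm_num)]; nlinarith
      have e2 : ((q : ℝ) + 2) / q ≤ 5 / 3 := by
        rw [div_le_div_iff₀ hq0 (by norm_num)]; linarith
      have e3 : ((q : ℝ) + 2) / (q - 1) ≤ 5 / 2 := by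
        rw [div_le_div_iff₀ hq1 (by norm_num)]; linarith
      have heq : A₂ + q * (q + 2) * (A₀ + (1 + q) * S) = ((q : ℝ) + 1) / q *
          (((q : ℝ) ^ 2 + 1) / (q * (q - 1)) + ((q : ℝ) + 2) / q + ((q : ℝ) + 2) / (q - 1)) := by
        rw [hA₂, hA₀, hS]; field_simp; ring
      rw [heq]
      have := mul_le_mul_of_nonneg_left (add_le_add (add_le_add e1 e2) e3)
        (by positivity : (0 : ℝ) ≤ ((q : ℝ) + 1) / q)
      have h0 : (0 : ℝ) ≤ ((q : ℝ) + 1) / q := by positivity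
      rw [mul_div_assoc (826 / 100 : ℝ)]
      linarith

lemma bound_two_large (n : ℕ) (hn : 15 ≤ n) :
    ((tNum 2 0 n n : ℝ) + 8 * tNum 2 1 (n - 1) n) ≤ 1239 / 100 * (2 : ℝ) ^ n := by
  have hU1 : ∀ i, 0 ≤ i → (tNum 2 0 1 i : ℝ) ≤ (3 / 2) * (2 : ℝ) ^ i := fun i _ => by
    refine le_trans (Nat.cast_le.mpr (tNum_one_le 2 0 i)) ?_
    refine (fA_le 2 _ (by norm_num)).trans ?_
    norm_num
  have stepU : ∀ (m : ℕ) (A A' : ℝ), (∀ i, 0 ≤ i → (tNum 2 0 m i : ℝ) ≤ A * (2 : ℝ) ^ i) → 0 ≤ A →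
      A * (1 + 1 / 2 ^ (m + 1)) ≤ A' * (1 - 2 * (1 / 2 ^ (m + 1))) → 1 ≤ m →
      ∀ i, 0 ≤ i → (tNum 2 0 (m + 1) i : ℝ) ≤ A' * (2 : ℝ) ^ i := by
    intro m A A' h hA hA' hm
    refine tNum_step 2 0 m 0 2 A A' 0 (1 / 2 ^ (m + 1)) one_le_two hA le_rfl (by simp) ?_ h
      (fun i hi => absurd hi (Nat.not_lt_zero i)) (by simpa using hA')
    rw [Nat.cast_ofNat, mul_one_div, div_lt_one (by positivity)]
    calc (2 : ℝ) = 2 ^ 1 := (pow_one 2).symm
      _ < _ := pow_lt_pow_right₀ one_lt_two (by omega)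
  have hU2 := stepU 1 _ (15 / 4) hU1 (by norm_num) (by norm_num) le_rfl
  have hU3 := stepU 2 _ (45 / 8) hU2 (by norm_num) (by norm_num) (by norm_num)
  have hU4 := stepU 3 _ (684 / 100) hU3 (by norm_num) (by norm_num) (by norm_num)
  have hU5 := stepU 4 _ (753 / 100) hU4 (by norm_num) (by norm_num) (by norm_num)
  have hU := tNum_tail 2 0 5 0 2 (753 / 100) 0 (1 / 32) one_le_two one_lt_two (by norm_num) le_rfl
    (by norm_num) (by norm_num) hU5 (fun m _ i hi => absurd hi (Nat.not_lt_zero i)) n (by omega) n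
    (Nat.zero_le n)
  have hL1 : ∀ i, 0 ≤ i → (tNum 2 1 1 i : ℝ) ≤ (3 / 2) * (3 / 2 : ℝ) ^ i := fun i _ => by
    refine le_trans (Nat.cast_le.mpr (tNum_one_le 2 1 i)) ((fA_le 2 _ (by norm_num)).trans ?_)
    norm_num
    calc (2 : ℝ) ^ (i / 2) ≤ (3 / 2) ^ (2 * (i / 2)) := by
          rw [pow_mul]; exact pow_le_pow_left₀ (by norm_num) (by norm_num) _
      _ ≤ _ := pow_le_pow_right₀ (by norm_num) (Nat.mul_div_le i 2)
  have stepL : ∀ (m : ℕ) (A A' : ℝ), (∀ i, 0 ≤ i → (tNum 2 1 m i : ℝ) ≤ A * (3 / 2 : ℝ) ^ i) → 0 ≤ A →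
      A * (1 + (2 / 3) ^ (m + 2)) ≤ A' * (1 - 2 * (2 / 3) ^ (m + 2)) → 1 ≤ m →
      ∀ i, 0 ≤ i → (tNum 2 1 (m + 1) i : ℝ) ≤ A' * (3 / 2 : ℝ) ^ i := by
    intro m A A' h hA hA' hm
    refine tNum_step 2 1 m 0 (3 / 2) A A' 0 ((2 / 3) ^ (m + 2)) (by norm_num) hA le_rfl
      (by rw [← mul_pow]; norm_num) ?_ h
      (fun i hi => absurd hi (Nat.not_lt_zero i)) (by simpa using hA')
    have : ((2 : ℝ) / 3) ^ (m + 2) ≤ (2 / 3) ^ 3 := pow_le_pow_of_le_one (by norm_num) (by norm_num) (by omega)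
    push_cast
    norm_num at this
    linarith
  have hL2 := stepL 1 _ (4773 / 1000) hL1 (by norm_num) (by norm_num) le_rfl
  have hL3 := stepL 2 _ (947 / 100) hL2 (by norm_num) (by norm_num) (by norm_num)
  have hL4 := stepL 3 _ (1456 / 100) hL3 (by norm_num) (by norm_num) (by norm_num)
  have hL5 := stepL 4 _ (1924 / 100) hL4 (by norm_num) (by norm_num) (by norm_num)
  have hL6 := stepL 5 _ (2307 / 100) hL5 (by norm_num) (by norm_num) (by norm_num)
  have hL7 := stepL 6 _ (2600 / 100) hL6 (by norm_num) (by norm_num) (by norm_num)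
  have hL8 := stepL 7 _ (2816 / 100) hL7 (by norm_num) (by norm_num) (by norm_num)
  have hL := tNum_tail 2 1 8 0 (3 / 2) (2816 / 100) 0 (1024 / 19683) one_le_two (by norm_num) (by norm_num)
    le_rfl (by norm_num) (by norm_num) hL8 (fun m _ i hi => absurd hi (Nat.not_lt_zero i)) (n - 1)
    (by omega) n (Nat.zero_le n)
  have hdec : ((3 : ℝ) / 2) ^ n ≤ (3 / 4) ^ 15 * 2 ^ n := by
    have e : ((3 : ℝ) / 2) ^ n = (3 / 4) ^ n * 2 ^ n := by rw [← mul_pow]; norm_num
    rw [e]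
    exact mul_le_mul_of_nonneg_right (pow_le_pow_of_le_one (by norm_num) (by norm_num) hn) (by positivity)
  have hP : (0 : ℝ) < 2 ^ n := by positivity
  norm_num at hU hL hdec
  linarith

/-- The numerical inequality behind the class number bound. -/
theorem tNum_bound (q n : ℕ) (hq : 2 ≤ q) (hn : 3 ≤ n) :
    100 * (tNum q 0 n n + q * (q + 2) * tNum q 1 (n - 1) n) ≤ 826 * (q + 1) * q ^ (n - 1) := by
  rcases Nat.lt_or_ge q 3 with hq2 | hq3
  · obtain rfl : q = 2 := by omega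
    rcases Nat.lt_or_ge n 15 with h | h
    · interval_cases n <;> decide +kernel
    · have := bound_two_large n h
      obtain ⟨k, rfl⟩ : ∃ k, n = k + 1 := ⟨n - 1, by omega⟩
      simp only [Nat.add_sub_cancel] at this ⊢
      rw [pow_succ] at this
      have h' : ((100 * (tNum 2 0 (k + 1) (k + 1) + 2 * (2 + 2) * tNum 2 1 k (k + 1)) : ℕ) : ℝ) ≤
          ((826 * (2 + 1) * 2 ^ k : ℕ) : ℝ) := by push_cast; linarith
      exact_mod_cast h'
  · rcases Nat.lt_or_ge n 4 with h | h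
    · obtain rfl : n = 3 := by omega
      simp [tNum, fA, sum_range_succ]
      nlinarith
    · have := bound_three_or_more q n hq3 h
      obtain ⟨k, rfl⟩ : ∃ k, n = k + 1 := ⟨n - 1, by omega⟩
      simp only [Nat.add_sub_cancel] at this ⊢
      have hq0 : (0 : ℝ) < q := by exact_mod_cast (by omega : 0 < q)
      have hk : 826 / 100 * ((q : ℝ) + 1) / q * (q : ℝ) ^ (k + 1) = 826 / 100 * (q + 1) * (q : ℝ) ^ k := by
        rw [pow_succ]; field_simp
      rw [hk] at this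
      have h' : ((100 * (tNum q 0 (k + 1) (k + 1) + q * (q + 2) * tNum q 1 k (k + 1)) : ℕ) : ℝ) ≤
          ((826 * (q + 1) * q ^ k : ℕ) : ℝ) := by push_cast; linarith
      exact_mod_cast h'

end H51.SUClasses
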