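import Cfsg.Agent.H51.SUClasses.Rev
import Cfsg.Agent.H51.SUClasses.Numeric

/-! Counting fixed polynomials and their sequences. -/

set_option autoImplicit false

open Polynomial

namespace H51.SUClasses

variable {F : Type*} [Field F] [Fintype F] {q : ℕ} (hF : Fintype.card F = q ^ 2)

/-- The elements of norm one. -/
def Nm1 (F : Type*) [Field F] (q : ℕ) := {c : F // c * c ^ q = 1}

instance (F : Type*) [Field F] [Fintype F] (q : ℕ) : Finite (Nm1 F q) :=
  Finite.of_injective (fun c : Nm1 F q => c.1) Subtype.val_injective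

include hF in
lemma card_Nm1 : Nat.card (Nm1 F q) = q + 1 := by
  classical
  have hq := one_lt_q hF
  have e : Nat.card (Nm1 F q) = Nat.card (powMonoidHom (q + 1) : Fˣ →* Fˣ).ker := by
    refine Nat.card_congr (Equiv.ofBijective
      (fun c => ⟨Units.mk0 c.1 (fun h => by simpa [h] using c.2), ?_⟩) ⟨?_, ?_⟩)
    · rw [MonoidHom.mem_ker, powMonoidHom_apply]
      exact Units.ext (by rw [Units.val_pow_eq_pow_val, Units.val_mk0, pow_succ', c.2, Units.val_one])
    · intro a b h
      exact Subtype.ext (congrArg (fun x : (powMonoidHom (q + 1) : Fˣ →* Fˣ).ker => ((x : Fˣ) : F)) h :)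
    · rintro ⟨u, hu⟩
      refine ⟨⟨u, ?_⟩, Subtype.ext (Units.ext rfl)⟩
      rw [MonoidHom.mem_ker, powMonoidHom_apply] at hu
      rw [← pow_succ', ← Units.val_pow_eq_pow_val, hu, Units.val_one]
  rw [e, IsCyclic.card_powMonoidHom_ker, Nat.card_eq_fintype_card, Fintype.card_units, hF]
  refine Nat.gcd_eq_right ⟨q - 1, ?_⟩
  obtain ⟨t, rfl⟩ : ∃ t, q = t + 2 := ⟨q - 2, by omega⟩
  have h : (t + 2) ^ 2 = (t + 2 + 1) * (t + 1) + 1 := by ring
  rw [show t + 2 - 1 = t + 1 from rfl, h]
  omega

/-- Coefficient vectors of fixed polynomials with constant term `c`. -/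
def FixVec (q m : ℕ) (c : F) := {v : Fin m → F // ∀ k, v k = c * v k.rev ^ q}

instance (q m : ℕ) (c : F) : Finite (FixVec q m c) := Subtype.finite

include hF in
lemma card_fixVec (m : ℕ) (c : Nm1 F q) : Nat.card (FixVec q m c.1) = q ^ m := by
  classical
  obtain ⟨θ, -, hθ⟩ := exists_theta hF
  have hc : c.1 * c.1 ^ q = 1 := c.2
  let S : (Fin m → F) → (Fin m → F) := fun v k => c.1 * v k.rev ^ q
  have hSS : ∀ v, S (S v) = v := fun v => funext fun k => by
    simp only [S, Fin.rev_rev, mul_pow, pow_q_q hF, ← mul_assoc, hc, one_mul]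
  let e : FixVec q m c.1 × FixVec q m c.1 → (Fin m → F) := fun x k => x.1.1 k + θ * x.2.1 k
  have hS : ∀ x k, S (e x) k = x.1.1 k + θ ^ q * x.2.1 k := fun x k => by
    show c.1 * (x.1.1 k.rev + θ * x.2.1 k.rev) ^ q = _
    rw [add_pow_q hF, mul_pow, x.1.2 k, x.2.2 k]
    ring
  have he : Function.Bijective e := by
    constructor
    · intro x y h
      have h2 : ∀ k, x.2.1 k = y.2.1 k := fun k => by
        have a := congrFun h k
        have b := congrFun (congrArg S h) k
        rw [hS, hS] at b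
        refine mul_left_cancel₀ hθ ?_
        simp only [e] at a
        linear_combination a - b
      refine Prod.ext (Subtype.ext (funext fun k => ?_)) (Subtype.ext (funext h2))
      have a := congrFun h k
      simp only [e, h2 k] at a
      exact add_right_cancel a
    · intro v
      have hd : (θ - θ ^ q) ^ q = -(θ - θ ^ q) := by rw [sub_pow_q hF, pow_q_q hF]; ring
      let b : Fin m → F := fun k => (v k - S v k) / (θ - θ ^ q)
      have hSv : ∀ k, c.1 * (S v k.rev) ^ q = v k := fun k => congrFun (hSS v) k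
      have hb : ∀ k, b k = c.1 * b k.rev ^ q := fun k => by
        show _ = c.1 * ((v k.rev - S v k.rev) / (θ - θ ^ q)) ^ q
        rw [div_pow, sub_pow_q hF, hd, mul_div_assoc', mul_sub, hSv k, div_neg, ← neg_div, neg_sub]
      have ha : ∀ k, v k - θ * b k = c.1 * (v k.rev - θ * b k.rev) ^ q := fun k => by
        rw [sub_pow_q hF, mul_pow, mul_sub, mul_left_comm c.1, ← hb k]
        show _ = S v k - _
        simp only [b]
        field_simp
        ring
      refine ⟨(⟨_, ha⟩, ⟨b, hb⟩), funext fun k => ?_⟩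
      show v k - θ * b k + θ * b k = v k
      ring
  have h := Nat.card_congr (Equiv.ofBijective e he)
  rw [Nat.card_prod, Nat.card_fun, Nat.card_fin, Nat.card_eq_fintype_card (α := F), hF, ← pow_mul,
    mul_comm 2, pow_mul, ← pow_two] at h
  exact Nat.pow_left_injective two_ne_zero h

/-- Fixed polynomials of degree `d`. -/
def UPoly (hF : Fintype.card F = q ^ 2) (d : ℕ) := {f : F[X] // UFix hF f ∧ f.natDegree = d}

lemma UFix.coeff_eq {f : F[X]} (h : UFix hF f) (i : ℕ) (hi : i ≤ f.natDegree) :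
    f.coeff i = f.coeff 0 * f.coeff (f.natDegree - i) ^ q := by
  conv_lhs => rw [← h.2.2, coeff_urev hF f i hi]
  rw [inv_eq_of_mul_eq_one_left (h.norm_coeff_zero)]

lemma uFix_of_coeff {f : F[X]} (hm : f.Monic) (h0 : f.coeff 0 * f.coeff 0 ^ q = 1)
    (h : ∀ i, i ≤ f.natDegree → f.coeff i = f.coeff 0 * f.coeff (f.natDegree - i) ^ q) : UFix hF f := by
  have h0' : f.coeff 0 ≠ 0 := fun e => by simp [e] at h0
  refine ⟨hm, h0', Polynomial.ext fun i => ?_⟩
  rcases Nat.lt_or_ge f.natDegree i with hi | hi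
  · rw [coeff_eq_zero_of_natDegree_lt (by rwa [natDegree_urev hF h0']), coeff_eq_zero_of_natDegree_lt hi]
  · rw [coeff_urev hF f i hi, h i hi, inv_eq_of_mul_eq_one_left h0]

/-- The middle coefficients of a fixed polynomial. -/
def middle {m : ℕ} (f : UPoly hF (m + 1)) : FixVec q m (f.1.coeff 0) :=
  ⟨fun k => f.1.coeff (k.val + 1), fun k => by
    show f.1.coeff _ = _ * f.1.coeff (k.rev.val + 1) ^ q
    rw [f.2.1.coeff_eq hF (k.val + 1) (by rw [f.2.2]; omega), f.2.2, Fin.val_rev]
    congr 3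
    omega⟩

lemma finite_UPoly (d : ℕ) : Finite (UPoly hF d) :=
  Finite.of_injective (fun f : UPoly hF d => fun i : Fin (d + 1) => f.1.coeff i) fun f g h => by
    refine Subtype.ext (Polynomial.ext fun i => ?_)
    by_cases hi : i < d + 1
    · exact congrFun h ⟨i, hi⟩
    · rw [coeff_eq_zero_of_natDegree_lt (by rw [f.2.2]; omega),
        coeff_eq_zero_of_natDegree_lt (by rw [g.2.2]; omega)]

lemma card_UPoly_le (d : ℕ) : Nat.card (UPoly hF d) ≤ fA q d := by
  rcases d with _ | m
  · haveI := finite_UPoly hF 0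
    refine le_trans (Finite.card_le_one_iff_subsingleton.mpr ⟨fun f g => Subtype.ext ?_⟩) (by simp [fA])
    rw [eq_one_of_monic_natDegree_zero f.2.1.1 f.2.2, eq_one_of_monic_natDegree_zero g.2.1.1 g.2.2]
  · let Ψ : UPoly hF (m + 1) → Σ c : Nm1 F q, FixVec q m c.1 := fun f =>
      ⟨⟨f.1.coeff 0, f.2.1.norm_coeff_zero⟩, middle hF f⟩
    letI : Fintype (Nm1 F q) := Fintype.ofFinite _
    have hc : Nat.card (Σ c : Nm1 F q, FixVec q m c.1) = fA q (m + 1) := by
      rw [Nat.card_sigma, Finset.sum_congr rfl fun c _ => card_fixVec hF m c, Finset.sum_const,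
        Finset.card_univ, ← Nat.card_eq_fintype_card, card_Nm1 hF]
      simp [fA]
    rw [← hc]
    refine Nat.card_le_card_of_injective Ψ fun f g h => ?_
    have h0 : f.1.coeff 0 = g.1.coeff 0 := congrArg (fun x : Σ c : Nm1 F q, FixVec q m c.1 => x.1.1) h
    have hk : (middle hF f).1 = (middle hF g).1 :=
      congrArg (fun x : Σ c : Nm1 F q, FixVec q m c.1 => x.2.1) h
    refine Subtype.ext (Polynomial.ext fun i => ?_)
    rcases lt_trichotomy i (m + 1) with hi | hi | hi
    · rcases i with _ | i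
      · exact h0
      · exact congrFun hk ⟨i, by omega⟩
    · subst hi
      have a := f.2.1.1.coeff_natDegree
      have b := g.2.1.1.coeff_natDegree
      rw [f.2.2] at a; rw [g.2.2] at b
      rw [a, b]
    · rw [coeff_eq_zero_of_natDegree_lt (by rw [f.2.2]; omega),
        coeff_eq_zero_of_natDegree_lt (by rw [g.2.2]; omega)]

/-- A fixed polynomial with given coefficients. -/
lemma exists_uPoly {m : ℕ} (c : Nm1 F q) (v : FixVec q m c.1) :
    ∃ f : UPoly hF (m + 1), f.1.coeff 0 = c.1 ∧ ∀ k : Fin m, f.1.coeff (k.val + 1) = v.1 k := by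
  let r : F[X] := C c.1 + ∑ i : Fin m, C (v.1 i) * X ^ (i.val + 1)
  have hr : r.degree < (m + 1 : ℕ) := by
    refine (degree_add_le _ _).trans_lt (max_lt ?_ ?_)
    · exact degree_C_le.trans_lt (by exact_mod_cast Nat.succ_pos m)
    · refine (degree_sum_le _ _).trans_lt ((Finset.sup_lt_iff (WithBot.bot_lt_coe _)).mpr fun i _ => ?_)
      exact (degree_C_mul_X_pow_le _ _).trans_lt (by exact_mod_cast Nat.succ_lt_succ i.isLt)
  have hd : (X ^ (m + 1) + r).natDegree = m + 1 := natDegree_eq_of_degree_eq_some (by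
    rw [degree_add_eq_left_of_degree_lt (by rwa [degree_X_pow]), degree_X_pow])
  have h0 : (X ^ (m + 1) + r).coeff 0 = c.1 := by simp [r, coeff_X_pow]
  have hk : ∀ k : Fin m, (X ^ (m + 1) + r).coeff (k.val + 1) = v.1 k := fun k => by
    simp only [r, coeff_add, finsetSum_coeff, coeff_C_mul, coeff_X_pow]
    rw [if_neg (by omega), coeff_C, if_neg (by omega), zero_add, zero_add, Finset.sum_eq_single k]
    · rw [if_pos rfl, mul_one]
    · intro j _ hj
      rw [if_neg (fun h => hj (Fin.ext (by omega))), mul_zero]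
    · simp
  have htop : (X ^ (m + 1) + r).coeff (m + 1) = 1 := by
    have h := (monic_X_pow_add hr).coeff_natDegree
    rwa [hd] at h
  refine ⟨⟨_, uFix_of_coeff hF (monic_X_pow_add hr) (by rw [h0]; exact c.2) fun i hi => ?_, hd⟩, h0, hk⟩
  rw [hd] at hi ⊢
  rw [h0]
  rcases Nat.eq_zero_or_pos i with rfl | hi0
  · rw [h0, Nat.sub_zero, htop, one_pow, mul_one]
  rcases hi.lt_or_eq with hlt | rfl
  · obtain ⟨k, rfl⟩ : ∃ k : Fin m, k.val + 1 = i := ⟨⟨i - 1, by omega⟩, by simp only; omega⟩
    rw [hk, show m + 1 - (k.val + 1) = k.rev.val + 1 by rw [Fin.val_rev]; omega, hk]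
    exact v.2 k
  · rw [htop, Nat.sub_self, h0, c.2]

/-- Sequences of fixed polynomials, the `j`th having weight `j + 1 + s`. -/
def USeq (hF : Fintype.card F = q ^ 2) (s m n : ℕ) := {g : Fin m → F[X] //
  (∀ j, UFix hF (g j)) ∧ ∑ j : Fin m, (j.val + 1 + s) * (g j).natDegree = n}

lemma card_USeq_le (s m : ℕ) : ∀ n, Finite (USeq hF s m n) ∧ Nat.card (USeq hF s m n) ≤ tNum q s m n := by
  induction m with
  | zero =>
    intro n
    haveI : Subsingleton (USeq hF s 0 n) := ⟨fun a b => Subtype.ext (funext fun j => j.elim0)⟩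
    refine ⟨inferInstance, ?_⟩
    by_cases hn : n = 0
    · simp only [tNum, if_pos hn]; exact Finite.card_le_one_iff_subsingleton.mpr inferInstance
    · haveI : IsEmpty (USeq hF s 0 n) := ⟨fun g => hn (by simpa using g.2.2.symm)⟩
      simp [Nat.card_of_isEmpty]
  | succ m ih =>
    intro n
    set j := m + 1 + s
    let T := Σ d : Fin (n / j + 1), UPoly hF d.val × USeq hF s m (n - j * d.val)
    haveI : ∀ d : Fin (n / j + 1), Finite (UPoly hF d.val × USeq hF s m (n - j * d.val)) := fun d => by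
      haveI := finite_UPoly hF d.val
      haveI := (ih (n - j * d.val)).1
      infer_instance
    have hsum : ∀ g : USeq hF s (m + 1) n, ∑ i : Fin m, (i.val + 1 + s) * (g.1 i.castSucc).natDegree +
        j * (g.1 (Fin.last m)).natDegree = n := fun g => by
      have h := g.2.2
      rw [Fin.sum_univ_castSucc] at h
      exact h
    let Ψ : USeq hF s (m + 1) n → T := fun g =>
      ⟨⟨(g.1 (Fin.last m)).natDegree, Nat.lt_succ_of_le ((Nat.le_div_iff_mul_le (by omega : 0 < j)).mpr
          (by have := hsum g; rw [mul_comm]; omega))⟩,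
        ⟨g.1 (Fin.last m), g.2.1 _, rfl⟩,
        ⟨fun i => g.1 i.castSucc, fun i => g.2.1 _, by
          have := hsum g
          show ∑ i : Fin m, (i.val + 1 + s) * (g.1 i.castSucc).natDegree =
            n - j * (g.1 (Fin.last m)).natDegree
          omega⟩⟩
    have hΨ : Function.Injective Ψ := fun g g' h => by
      have h1 : g.1 (Fin.last m) = g'.1 (Fin.last m) := congrArg (fun x : T => x.2.1.1) h
      have h2 : (fun i : Fin m => g.1 i.castSucc) = fun i : Fin m => g'.1 i.castSucc :=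
        congrArg (fun x : T => x.2.2.1) h
      exact Subtype.ext (funext fun i => Fin.lastCases h1 (fun k => congrFun h2 k) i)
    haveI : Finite (USeq hF s (m + 1) n) := Finite.of_injective Ψ hΨ
    refine ⟨inferInstance, (Nat.card_le_card_of_injective Ψ hΨ).trans ?_⟩
    rw [Nat.card_sigma, tNum, ← Fin.sum_univ_eq_sum_range (fun d => fA q d * tNum q s m (n - j * d))]
    refine Finset.sum_le_sum fun d _ => ?_
    rw [Nat.card_prod]
    exact Nat.mul_le_mul (card_UPoly_le hF _) (ih _).2

instance (s m n : ℕ) : Finite (USeq hF s m n) := (card_USeq_le hF s m n).1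

/-- Sequences with `g 0 ≠ 1`. -/
def Top (hF : Fintype.card F = q ^ 2) (k : ℕ) := {g : USeq hF 0 (k + 1) (k + 1) // g.1 0 ≠ 1}

/-- Sequences with `g 0 = 1`. -/
def Low (hF : Fintype.card F = q ^ 2) (k : ℕ) := {g : USeq hF 0 (k + 1) (k + 1) // g.1 0 = 1}

instance (k : ℕ) : Finite (Top hF k) := Subtype.finite
instance (k : ℕ) : Finite (Low hF k) := Subtype.finite

lemma card_top_add_low (k : ℕ) :
    Nat.card (Top hF k) + Nat.card (Low hF k) = Nat.card (USeq hF 0 (k + 1) (k + 1)) := by
  classical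
  have h : Nat.card (Low hF k) + Nat.card (Top hF k) = Nat.card (USeq hF 0 (k + 1) (k + 1)) := by
    rw [← Nat.card_sum]
    exact Nat.card_congr (Equiv.sumCompl _)
  omega

lemma card_low_le (k : ℕ) : Nat.card (Low hF k) ≤ Nat.card (USeq hF 1 k (k + 1)) := by
  refine Nat.card_le_card_of_injective
    (fun g => ⟨fun i => g.1.1 i.succ, fun i => g.1.2.1 _, ?_⟩) fun g g' h => ?_
  · have h := g.1.2.2
    rw [Fin.sum_univ_succ, g.2, natDegree_one] at h
    simpa [add_assoc] using h
  · refine Subtype.ext (Subtype.ext (funext fun i => ?_))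
    refine Fin.cases (g.2.trans g'.2.symm) (fun j => ?_) i
    exact congrFun (congrArg (fun x : USeq hF 1 k (k + 1) => x.1) h) j

/-- Top sequences of determinant one are a `(q+1)`th part of all top sequences. -/
lemma card_top_det_le (k : ℕ) :
    (q + 1) * Nat.card {g : Top hF k // H41.seqDet g.1.1 = 1} ≤ Nat.card (Top hF k) := by
  classical
  have hw : ∀ lam : Nm1 F q, ∃ w : F, w ≠ 0 ∧ lam.1 * w ^ q = w := fun lam => exists_hilbert90 hF lam.2
  choose w hw0 hw using hw
  let tw : F → F → F[X] → F[X] := fun lam w f =>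
    C w * (f - X ^ f.natDegree - C (f.coeff 0)) + X ^ f.natDegree + C (f.coeff 0 * lam)
  have hco : ∀ (lam w : F) (f : F[X]) (i : ℕ), f.Monic → 0 < f.natDegree →
      (tw lam w f).coeff i = if i = 0 then f.coeff 0 * lam else if i = f.natDegree then 1 else w * f.coeff i := by
    intro lam w f i hm hpos
    simp only [tw, coeff_add, coeff_C_mul, coeff_sub, coeff_X_pow, coeff_C]
    rcases Nat.eq_zero_or_pos i with rfl | hi
    · simp [hpos.ne]
    · rw [if_neg hi.ne', if_neg hi.ne', if_neg hi.ne']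
      split_ifs with h
      · subst h; rw [hm.coeff_natDegree]; ring
      · ring
  have key : ∀ (lam : Nm1 F q) (f : F[X]), UFix hF f → 0 < f.natDegree →
      UFix hF (tw lam.1 (w lam) f) ∧ (tw lam.1 (w lam) f).natDegree = f.natDegree := by
    intro lam f hf hpos
    have hdeg : (tw lam.1 (w lam) f).natDegree = f.natDegree := by
      refine natDegree_eq_of_le_of_coeff_ne_zero (natDegree_le_iff_coeff_eq_zero.mpr fun i hi => ?_) ?_
      · rw [hco _ _ _ _ hf.1 hpos, if_neg (by omega), if_neg (by omega),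
          coeff_eq_zero_of_natDegree_lt hi, mul_zero]
      · rw [hco _ _ _ _ hf.1 hpos, if_neg hpos.ne', if_pos rfl]; exact one_ne_zero
    refine ⟨uFix_of_coeff hF ?_ ?_ ?_, hdeg⟩
    · rw [Monic, leadingCoeff, hdeg, hco _ _ _ _ hf.1 hpos, if_neg hpos.ne', if_pos rfl]
    · rw [hco _ _ _ _ hf.1 hpos, if_pos rfl, mul_pow]
      calc f.coeff 0 * lam.1 * (f.coeff 0 ^ q * lam.1 ^ q) = (f.coeff 0 * f.coeff 0 ^ q) * (lam.1 * lam.1 ^ q) := by ring
        _ = 1 := by rw [hf.norm_coeff_zero, lam.2, one_mul]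
    · intro i hi
      rw [hdeg] at hi ⊢
      simp only [hco _ _ _ _ hf.1 hpos, if_true]
      rcases Nat.eq_zero_or_pos i with rfl | hi0
      · rw [if_pos rfl, Nat.sub_zero, if_neg hpos.ne', if_pos rfl, one_pow, mul_one]
      rcases hi.lt_or_eq with hlt | rfl
      · rw [if_neg hi0.ne', if_neg hlt.ne, if_neg (by omega), if_neg (by omega),
          hf.coeff_eq hF i hi, mul_pow]
        linear_combination -(f.coeff 0 * f.coeff (f.natDegree - i) ^ q) * hw lam
      · rw [if_neg hpos.ne', if_pos rfl, Nat.sub_self, if_pos rfl, mul_pow]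
        calc (1 : F) = (f.coeff 0 * f.coeff 0 ^ q) * (lam.1 * lam.1 ^ q) := by rw [hf.norm_coeff_zero, lam.2, one_mul]
          _ = _ := by ring
  have hpos : ∀ g : Top hF k, 0 < (g.1.1 0).natDegree := fun g => (g.1.2.1 0).1.natDegree_pos.mpr g.2
  let Ψ : {g : Top hF k // H41.seqDet g.1.1 = 1} × Nm1 F q → Top hF k := fun x =>
    ⟨⟨Function.update x.1.1.1.1 0 (tw x.2.1 (w x.2) (x.1.1.1.1 0)), by
      intro j
      rcases eq_or_ne j 0 with rfl | hj
      · rw [Function.update_self]; exact (key x.2 _ (x.1.1.1.2.1 0) (hpos x.1.1)).1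
      · rw [Function.update_of_ne hj]; exact x.1.1.1.2.1 j, by
      refine Eq.trans (Finset.sum_congr rfl fun j _ => ?_) x.1.1.1.2.2
      rcases eq_or_ne j 0 with rfl | hj
      · rw [Function.update_self, (key x.2 _ (x.1.1.1.2.1 0) (hpos x.1.1)).2]
      · rw [Function.update_of_ne hj]⟩, by
      show (Function.update x.1.1.1.1 0 (tw x.2.1 (w x.2) (x.1.1.1.1 0))) 0 ≠ 1
      rw [Function.update_self]
      intro h
      have := (key x.2 _ (x.1.1.1.2.1 0) (hpos x.1.1)).2
      rw [h, natDegree_one] at this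
      exact (hpos x.1.1).ne this⟩
  have hdet : ∀ x, H41.seqDet (Ψ x).1.1 = x.2.1 := by
    intro x
    have h1 := x.1.2
    rw [H41.seqDet, Fin.prod_univ_succ] at h1
    show ∏ j, H41.cTerm (Function.update x.1.1.1.1 0 _ j) ^ (j.val + 1) = _
    rw [Fin.prod_univ_succ, Function.update_self,
      Finset.prod_congr rfl (fun j _ => by rw [Function.update_of_ne (Fin.succ_ne_zero j)] :
        ∀ j ∈ (Finset.univ : Finset (Fin k)), _ = H41.cTerm (x.1.1.1.1 j.succ) ^ ((j.succ : Fin (k + 1)).val + 1))]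
    rw [H41.cTerm, (key x.2 _ (x.1.1.1.2.1 0) (hpos x.1.1)).2, hco _ _ _ _ (x.1.1.1.2.1 0).1 (hpos x.1.1), if_pos rfl]
    rw [H41.cTerm] at h1
    simp only [Fin.val_zero, zero_add, pow_one] at h1 ⊢
    linear_combination x.2.1 * h1
  rw [mul_comm, ← card_Nm1 hF, ← Nat.card_prod]
  refine Nat.card_le_card_of_injective Ψ ?_
  intro x y h
  have hl : x.2 = y.2 := Subtype.ext (by rw [← hdet x, h, hdet y])
  have hf := congrArg (fun g : Top hF k => g.1.1) h
  refine Prod.ext (Subtype.ext (Subtype.ext (Subtype.ext (funext fun j => ?_)))) hl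
  rcases eq_or_ne j 0 with rfl | hj
  · have h0 := congrFun hf 0
    simp only [Ψ, Function.update_self, ← hl] at h0
    have hdeg : (x.1.1.1.1 0).natDegree = (y.1.1.1.1 0).natDegree := by
      rw [← (key x.2 _ (x.1.1.1.2.1 0) (hpos x.1.1)).2, h0, (key x.2 _ (y.1.1.1.2.1 0) (hpos y.1.1)).2]
    refine Polynomial.ext fun i => ?_
    have hi := congrArg (fun p : F[X] => p.coeff i) h0
    simp only [hco _ _ _ _ (x.1.1.1.2.1 0).1 (hpos x.1.1), hco _ _ _ _ (y.1.1.1.2.1 0).1 (hpos y.1.1)] at hi
    have hl0 : x.2.1 ≠ 0 := fun e => by simpa [e] using x.2.2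
    split_ifs at hi with a b c d
    · subst a; exact mul_right_cancel₀ hl0 hi
    · rw [b, (x.1.1.1.2.1 0).1.coeff_natDegree, hdeg, (y.1.1.1.2.1 0).1.coeff_natDegree]
    · exact absurd (b.trans hdeg) c
    · exact absurd (d.trans hdeg.symm) b
    · exact mul_left_cancel₀ (hw0 _) hi
  · have := congrFun hf j
    simpa [Ψ, Function.update_of_ne hj] using this

end H51.SUClasses
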