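import Cfsg.Agent.H51.SUClasses.Cent

/-! A unitary matrix with a prescribed fixed characteristic polynomial. -/

set_option autoImplicit false

open Polynomial Matrix

namespace H51.SUClasses

variable {F : Type*} [Field F] [Fintype F] {q n : ℕ} (hF : Fintype.card F = q ^ 2)

include hF in
theorem exists_SU_charpoly {f : F[X]} (hf : UFix hF f) (hd : f.natDegree = n) (hn : 0 < n)
    (hc : H41.cTerm f = 1) :
    ∃ g : ↥(Cfsg.SU n F q), ((g : GL (Fin n) F) : Matrix (Fin n) (Fin n) F).charpoly = f := by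
  classical
  haveI : Module.Finite F (AdjoinRoot f) := Module.Finite.of_basis (kBasis hf.1 hd)
  haveI : Finite (AdjoinRoot f) := Module.finite_of_finite F
  set b := kBasis hf.1 hd
  set x := AdjoinRoot.root f with hx
  set y : AdjoinRoot f := AdjoinRoot.of f (-(f.coeff 0)⁻¹) * AdjoinRoot.mk f f.divX with hy
  have hxy : x * y = 1 := by
    have h : AdjoinRoot.mk f (X * f.divX + C (f.coeff 0)) = 0 := by
      rw [X_mul, divX_mul_X_add, AdjoinRoot.mk_self]
    rw [map_add, map_mul, AdjoinRoot.mk_X, AdjoinRoot.mk_C, add_eq_zero_iff_eq_neg] at h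
    rw [hy, mul_left_comm, hx, h, ← map_neg, ← map_mul, neg_mul_neg, inv_mul_cancel₀ hf.2.1, map_one]
  have hroot : f.eval₂ ((AdjoinRoot.of f).comp (qFrob hF)) y = 0 := by
    rw [← eval₂_map]
    letI : Invertible y := ⟨x, hxy, by rw [mul_comm, hxy]⟩
    rw [← eval₂_reverse_mul_pow]
    have hrev : (f.map (qFrob hF)).reverse = C (f.coeff 0 ^ q) * f := by
      have h := congrArg (fun p : F[X] => C (f.coeff 0 ^ q) * p) hf.2.2
      simp only [urev_apply] at h
      rwa [← mul_assoc, ← C_mul, mul_inv_cancel₀ (pow_ne_zero _ hf.2.1), C_1, one_mul] at h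
    rw [hrev, eval₂_mul, show ⅟y = x from rfl, AdjoinRoot.eval₂_root, mul_zero, zero_mul]
  set τ : AdjoinRoot f →+* AdjoinRoot f := AdjoinRoot.lift ((AdjoinRoot.of f).comp (qFrob hF)) y hroot with hτ
  have hτof : ∀ a, τ (AdjoinRoot.of f a) = AdjoinRoot.of f (a ^ q) := fun a => by
    rw [hτ, AdjoinRoot.lift_of, RingHom.comp_apply, qFrob_apply]
  have hτx : τ x = y := by rw [hτ, hx, AdjoinRoot.lift_root]
  have hττ : ∀ a, τ (τ a) = a := by
    have hτy : τ y = x := by
      have h := congrArg τ hxy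
      rw [map_mul, hτx, map_one] at h
      calc τ y = (x * y) * τ y := by rw [hxy, one_mul]
        _ = x := by rw [mul_assoc, h, mul_one]
    intro a
    obtain ⟨p, rfl⟩ := AdjoinRoot.mk_surjective a
    induction p using Polynomial.induction_on' with
    | add p r hp hr => rw [map_add, map_add, map_add, hp, hr]
    | monomial k a =>
      rw [← C_mul_X_pow_eq_monomial, map_mul, map_pow, AdjoinRoot.mk_C, AdjoinRoot.mk_X, map_mul, map_mul, map_pow,
        map_pow, hτof, hτof, pow_q_q hF, hτx, hτy]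
  have hτsmul : ∀ (c : F) a, τ (c • a) = (c ^ q) • τ a := fun c a => by
    rw [Algebra.smul_def, Algebra.smul_def, map_mul]
    exact congrArg (· * τ a) (hτof c)
  let l₀ : AdjoinRoot f →ₗ[F] F := (lcoeff F (n - 1)).comp (AdjoinRoot.modByMonicHom hf.1)
  have hnd : ∀ a, a ≠ 0 → ∃ z, l₀ (z * a) ≠ 0 := by
    intro a ha
    obtain ⟨p, rfl⟩ := AdjoinRoot.mk_surjective a
    set r := p %ₘ f with hr
    have hr0 : r ≠ 0 := fun h => ha (AdjoinRoot.mk_eq_zero.mpr ((modByMonic_eq_zero_iff_dvd hf.1).mp h))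
    have hrn : r.natDegree < n := hd ▸ natDegree_modByMonic_lt p hf.1 (fun h => by rw [h, natDegree_one] at hd; omega)
    refine ⟨AdjoinRoot.mk f (X ^ (n - 1 - r.natDegree)), ?_⟩
    have e : AdjoinRoot.mk f p = AdjoinRoot.mk f r := AdjoinRoot.mk_eq_mk.mpr ⟨p /ₘ f, by
      linear_combination -(modByMonic_add_div p f)⟩
    rw [e, ← map_mul]
    show (AdjoinRoot.modByMonicHom hf.1 _).coeff (n - 1) ≠ 0
    rw [AdjoinRoot.modByMonicHom_mk, modByMonic_eq_self_iff hf.1 |>.mpr, X_pow_mul]
    · rw [show n - 1 = r.natDegree + (n - 1 - r.natDegree) by omega, Nat.add_sub_cancel_left, coeff_mul_X_pow]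
      exact leadingCoeff_ne_zero.mpr hr0
    · rw [X_pow_mul]
      refine degree_lt_degree ?_
      rw [natDegree_mul_X_pow _ hr0, hd]
      omega
  let L : AdjoinRoot f →ₗ[F] Module.Dual F (AdjoinRoot f) :=
    { toFun := fun u => l₀.comp (LinearMap.mulLeft F u)
      map_add' := fun u v => LinearMap.ext fun a => by simp [add_mul, map_add]
      map_smul' := fun c u => LinearMap.ext fun a => by simp }
  have hLinj : Function.Injective L := by
    rw [← LinearMap.ker_eq_bot, LinearMap.ker_eq_bot']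
    intro u hu
    by_contra h
    obtain ⟨z, hz⟩ := hnd u h
    apply hz
    have := LinearMap.congr_fun hu z
    simpa [L, mul_comm] using this
  let l₁ : AdjoinRoot f →ₗ[F] F :=
    { toFun := fun a => l₀ (τ a) ^ q
      map_add' := fun a a' => by rw [map_add, map_add, add_pow_q hF]
      map_smul' := fun c a => by
        rw [hτsmul, map_smul, smul_eq_mul, mul_pow, pow_q_q hF, RingHom.id_apply, smul_eq_mul] }
  obtain ⟨u, hu⟩ := (LinearMap.injective_iff_surjective_of_finrank_eq_finrank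
    (Subspace.dual_finrank_eq).symm).mp hLinj l₁
  have hu' : ∀ a, l₀ (u * a) = l₀ (τ a) ^ q := fun a => LinearMap.congr_fun hu a
  have huu : u * τ u = 1 := by
    by_contra hne
    obtain ⟨z, hz⟩ := hnd _ (sub_ne_zero.mpr hne)
    apply hz
    have h2 := hu' (τ (u * τ z))
    rw [hττ, hu' (τ z), hττ, pow_q_q hF, map_mul τ, hττ, ← mul_assoc] at h2
    rw [mul_sub, map_sub, mul_one, mul_comm z, h2, sub_self]
  obtain ⟨θ, hθ, hθ'⟩ := exists_theta hF
  obtain ⟨w, hw, hwu⟩ := hilbert90_unit τ hττ (θ := AdjoinRoot.of f θ)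
    (by rw [hτof, ← map_add]; exact (IsUnit.mk0 _ hθ).map _)
    (by rw [hτof, ← map_sub]; exact (IsUnit.mk0 _ hθ').map _) huu
  let l : AdjoinRoot f →ₗ[F] F := l₀.comp (LinearMap.mulLeft F w)
  have hsym : ∀ a, l (τ a) ^ q = l a := by
    intro a
    show l₀ (w * τ a) ^ q = l₀ (w * a)
    have h := hu' (τ w * a)
    rw [map_mul τ, hττ, ← mul_assoc, hwu] at h
    exact h.symm
  let H : Matrix (Fin n) (Fin n) F := Matrix.of fun i j => l (τ (b i) * b j)
  have hbil : ∀ c' c : Fin n → F, (fun i => c' i ^ q) ⬝ᵥ (H *ᵥ c) = l (τ (b.equivFun.symm c') * b.equivFun.symm c) := by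
    intro c' c
    simp only [Module.Basis.equivFun_symm_apply, map_sum, hτsmul, Finset.sum_mul, Finset.mul_sum,
      smul_mul_assoc, mul_smul_comm, map_smul, smul_eq_mul, dotProduct, Matrix.mulVec, H, Matrix.of_apply]
    refine Finset.sum_comm.trans ?_
    exact Finset.sum_congr rfl fun i _ => Finset.sum_congr rfl fun j _ => by ring
  set Cm := cMat hf.1 hd with hCm
  have hC : ∀ c, b.equivFun.symm (Cm *ᵥ c) = x * b.equivFun.symm c := by
    intro c
    obtain ⟨a, rfl⟩ := b.equivFun.surjective c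
    have h1 : Cm *ᵥ b.equivFun a = b.equivFun (x * a) := by
      simpa [Module.Basis.equivFun_apply, hCm, cMat, hx] using Algebra.leftMulMatrix_mulVec_repr b (AdjoinRoot.root f) a
    rw [h1, LinearEquiv.symm_apply_apply, LinearEquiv.symm_apply_apply]
  have hext : ∀ A B : Matrix (Fin n) (Fin n) F,
      (∀ c' c : Fin n → F, (fun i => c' i ^ q) ⬝ᵥ (A *ᵥ c) = (fun i => c' i ^ q) ⬝ᵥ (B *ᵥ c)) → A = B := by
    intro A B h
    ext i j
    have h' := h (Pi.single i 1) (Pi.single j 1)
    rw [show (fun k => (Pi.single i (1 : F) : Fin n → F) k ^ q) = Pi.single i 1 by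
      funext k; rcases eq_or_ne k i with rfl | hk <;> simp [*, (q_pos hF).ne'],
      single_one_dotProduct, single_one_dotProduct, Matrix.mulVec_single_one, Matrix.mulVec_single_one] at h'
    exact h'
  have hinv : adj hF Cm * H * Cm = H := hext _ _ fun c' c => by
    have e := sdot_mulVec hF Cm c' (H *ᵥ (Cm *ᵥ c))
    rw [sdot] at e
    rw [Matrix.mul_assoc, ← Matrix.mulVec_mulVec, ← Matrix.mulVec_mulVec, ← e, hbil, hC, hC, map_mul τ, hbil,
      hτx, mul_mul_mul_comm, mul_comm y x, hxy, one_mul]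
  have hherm : adj hF H = H := by
    ext i j
    rw [adj_apply]
    show l (τ (b j) * b i) ^ q = l (τ (b i) * b j)
    rw [← hsym (τ (b i) * b j), map_mul τ, hττ, mul_comm (b i)]
  have hdet : IsUnit H := by
    rw [Matrix.isUnit_iff_isUnit_det, isUnit_iff_ne_zero]
    intro h0
    obtain ⟨c, hc0, hc⟩ := Matrix.exists_mulVec_eq_zero_iff.mpr h0
    refine hc0 ?_
    set a := b.equivFun.symm c with ha
    have h1 : ∀ z, l₀ (z * (w * a)) = 0 := by
      intro z
      obtain ⟨c', hc'⟩ := b.equivFun.symm.surjective (τ z)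
      have := hbil c' c
      rw [hc, dotProduct_zero, hc', hττ] at this
      rw [mul_left_comm]
      exact this.symm
    have hwa : w * a = 0 := by
      by_contra h
      obtain ⟨z, hz⟩ := hnd _ h
      exact hz (h1 z)
    have : a = 0 := hw.mul_right_eq_zero.mp hwa
    rw [ha] at this
    exact b.equivFun.symm.map_eq_zero_iff.mp this
  obtain ⟨P, hPu, hP⟩ := exists_adj_mul_self hF hherm hdet
  set U : GL (Fin n) F := hPu.unit with hU
  set M : Matrix (Fin n) (Fin n) F := (U : Matrix (Fin n) (Fin n) F) * Cm * ((U⁻¹ : GL (Fin n) F) : Matrix (Fin n) (Fin n) F) with hM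
  have hchar : M.charpoly = f := by
    rw [hM, Matrix.coe_units_inv, Matrix.charpoly_units_conj, hCm, cMat]
    show (LinearMap.toMatrix b b (LinearMap.mulLeft F x)).charpoly = f
    rw [LinearMap.charpoly_toMatrix, ← LinearMap.charpoly_toMatrix _ (AdjoinRoot.powerBasis' hf.1).basis]
    refine Eq.trans (charpoly_leftMulMatrix (AdjoinRoot.powerBasis' hf.1)) ?_
    rw [AdjoinRoot.powerBasis'_gen, AdjoinRoot.minpoly_root hf.1.ne_zero, hf.1.leadingCoeff, inv_one, C_1, mul_one]
  have hunit : adj hF M * M = 1 := by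
    have hUP : (U : Matrix (Fin n) (Fin n) F) = P := rfl
    set Ui : Matrix (Fin n) (Fin n) F := ((U⁻¹ : GL (Fin n) F) : Matrix (Fin n) (Fin n) F) with hUi
    have hPi : P * Ui = 1 := Units.mul_inv U
    calc adj hF M * M = adj hF Ui * (adj hF Cm * (adj hF P * P) * Cm) * Ui := by
          rw [hM, hUP, adj_mul, adj_mul]; simp only [Matrix.mul_assoc]
      _ = adj hF (P * Ui) * (P * Ui) := by
          rw [hP, hinv, ← hP, adj_mul]; simp only [Matrix.mul_assoc]
      _ = 1 := by rw [hPi, adj_one, one_mul]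
  refine ⟨mkSU hF M hunit ?_, by rw [coe_mkSU]; exact hchar⟩
  rw [Matrix.det_eq_sign_charpoly_coeff, hchar, Fintype.card_fin, ← hd]
  exact hc

end H51.SUClasses
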