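import Cfsg.Agent.H51.SUClasses.Cent
import Cfsg.Agent.H51.SUClasses.Fixed
import Cfsg.Agent.H51.SUClasses.Realise

/-! Bounds for the class number of `SU`. -/

set_option autoImplicit false

open Polynomial Matrix

namespace H51.SUClasses

variable {F : Type*} [Field F] [Fintype F] {q : ℕ} (hF : Fintype.card F = q ^ 2)

omit [Fintype F] in
lemma seqDet_seq {n : ℕ} (x : Matrix.SpecialLinearGroup (Fin n) F) (s : H41.EDiv F n)
    (hs : ConjClasses.mk (Matrix.SpecialLinearGroup.toGL x) = H41.glClassEquiv s) :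
    H41.seqDet (H41.seqFun (n := n) s.1) = 1 := by
  rw [← H41.det_glOfEDiv]
  rw [H41.glClassEquiv_apply, ConjClasses.mk_eq_mk_iff_isConj] at hs
  obtain ⟨c, hc⟩ := isConj_iff.mp hs
  rw [← hc, ← Matrix.GeneralLinearGroup.val_det_apply, map_mul, map_mul,
    show Matrix.GeneralLinearGroup.det (Matrix.SpecialLinearGroup.toGL x) = 1 from Units.ext x.2, map_inv, mul_one,
    mul_inv_cancel, Units.val_one]

include hF in
theorem upper_bound (k : ℕ) :
    Nat.card (ConjClasses (Cfsg.SU (k + 1) F q)) ≤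
      Nat.card {g : Top hF k // H41.seqDet g.1.1 = 1} +
        Nat.card {g : Low hF k // H41.seqDet g.1.1 = 1} * (q + 1) := by
  classical
  let E : ↥(Cfsg.SU (k + 1) F q) → GL (Fin (k + 1)) F := fun x => Matrix.SpecialLinearGroup.toGL x.1
  have hE : ∀ x, E x ∈ Cfsg.GU (k + 1) F q := fun x =>
    (mem_GU_iff hF _).mpr ((mem_SU_iff hF x.1).mp x.2)
  let rep : ConjClasses (Cfsg.SU (k + 1) F q) → ↥(Cfsg.SU (k + 1) F q) := fun C => C.exists_rep.choose
  have hrep : ∀ C, ConjClasses.mk (rep C) = C := fun C => C.exists_rep.choose_spec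
  let sd : ConjClasses (Cfsg.SU (k + 1) F q) → H41.EDiv F (k + 1) := fun C =>
    H41.glClassEquiv.symm (ConjClasses.mk (E (rep C)))
  have hsd : ∀ C, ConjClasses.mk (E (rep C)) = H41.glClassEquiv (sd C) := fun C =>
    (Equiv.apply_symm_apply _ _).symm
  let π : ConjClasses (Cfsg.SU (k + 1) F q) → USeq hF 0 (k + 1) (k + 1) := fun C =>
    ⟨H41.seqFun (sd C).1, fun j => seqFun_fixed hF (hE _) (sd C) (hsd C) j,
      (by
        have h : ∑ j : Fin (k + 1), (j.val + 1) * (H41.seqFun (sd C).1 j).natDegree = k + 1 :=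
          ((H41.edivSeqEquiv (k + 1)) (sd C)).2.2
        simpa using h)⟩
  have hdet : ∀ C, H41.seqDet (π C).1 = 1 := fun C => seqDet_seq (rep C).1 (sd C) (hsd C)
  have hπ : ∀ C C', π C = π C' → ∃ u : GL (Fin (k + 1)) F, u ∈ Cfsg.GU (k + 1) F q ∧
      u * E (rep C) * u⁻¹ = E (rep C') := by
    intro C C' h
    have hs : sd C = sd C' := (H41.edivSeqEquiv (k + 1)).injective
      (Subtype.ext (congrArg Subtype.val h :))
    refine gu_conj_of_gl_conj hF (hE _) (hE _) (ConjClasses.mk_eq_mk_iff_isConj.mp ?_)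
    rw [hsd, hsd, hs]
  let base : USeq hF 0 (k + 1) (k + 1) → GL (Fin (k + 1)) F := fun g =>
    if h : ∃ C, π C = g then E (rep h.choose) else 1
  have hbase : ∀ C, ∃ u : GL (Fin (k + 1)) F, u ∈ Cfsg.GU (k + 1) F q ∧ u * base (π C) * u⁻¹ = E (rep C) := by
    intro C
    have h : ∃ C', π C' = π C := ⟨C, rfl⟩
    simp only [base, dif_pos h]
    exact hπ _ _ h.choose_spec
  choose U hUmem hU using hbase
  have hnorm : ∀ u : GL (Fin (k + 1)) F, u ∈ Cfsg.GU (k + 1) F q →
      (u : Matrix (Fin (k + 1)) (Fin (k + 1)) F).det * (u : Matrix (Fin (k + 1)) (Fin (k + 1)) F).det ^ q = 1 :=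
    fun u hu => by rw [mul_comm]; exact det_norm_GU hF ((mem_GU_iff hF u).mp hu)
  let d : ConjClasses (Cfsg.SU (k + 1) F q) → Nm1 F q := fun C => ⟨_, hnorm _ (hUmem C)⟩
  have hsame : ∀ (C C' : ConjClasses (Cfsg.SU (k + 1) F q)) (u : GL (Fin (k + 1)) F),
      u ∈ Cfsg.GU (k + 1) F q → (u : Matrix (Fin (k + 1)) (Fin (k + 1)) F).det = 1 →
      u * E (rep C) * u⁻¹ = E (rep C') → C = C' := by
    intro C C' u hu hud h
    rw [← hrep C, ← hrep C']
    let v : ↥(Cfsg.SU (k + 1) F q) := mkSU hF _ ((mem_GU_iff hF u).mp hu) hud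
    have hv : E v = u := Units.ext (coe_mkSU hF _ _ _)
    refine ConjClasses.mk_eq_mk_iff_isConj.mpr (isConj_iff.mpr ⟨v, ?_⟩)
    apply Subtype.ext
    apply Matrix.SpecialLinearGroup.toGL_injective
    show E (v * rep C * v⁻¹) = E (rep C')
    rw [← h, ← hv]
    simp [E, map_mul, map_inv]
  let Ψ : ConjClasses (Cfsg.SU (k + 1) F q) →
      {g : Top hF k // H41.seqDet g.1.1 = 1} ⊕ ({g : Low hF k // H41.seqDet g.1.1 = 1} × Nm1 F q) := fun C =>
    if h : (π C).1 0 = 1 then Sum.inr (⟨⟨π C, h⟩, hdet C⟩, d C) else Sum.inl ⟨⟨π C, h⟩, hdet C⟩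
  refine (Nat.card_le_card_of_injective Ψ fun C C' h => ?_).trans (by
    rw [Nat.card_sum, Nat.card_prod, card_Nm1 hF])
  simp only [Ψ] at h
  by_cases h0 : (π C).1 0 = 1 <;> by_cases h0' : (π C').1 0 = 1
  · rw [dif_pos h0, dif_pos h0', Sum.inr.injEq, Prod.mk.injEq] at h
    have hpi : π C = π C' := congrArg (fun g : {g : Low hF k // H41.seqDet g.1.1 = 1} => g.1.1) h.1
    have hd : (U C : Matrix (Fin (k + 1)) (Fin (k + 1)) F).det = (U C' : Matrix (Fin (k + 1)) (Fin (k + 1)) F).det :=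
      congrArg Subtype.val h.2
    refine hsame C C' (U C' * (U C)⁻¹) (mul_mem (hUmem C') (inv_mem (hUmem C))) ?_ ?_
    · rw [← Matrix.GeneralLinearGroup.val_det_apply, map_mul, map_inv,
        show Matrix.GeneralLinearGroup.det (U C) = Matrix.GeneralLinearGroup.det (U C') from Units.ext hd,
        mul_inv_cancel, Units.val_one]
    · rw [← hU C, ← hU C', hpi]; group
  · rw [dif_pos h0, dif_neg h0'] at h; exact absurd h (by simp)
  · rw [dif_neg h0, dif_pos h0'] at h; exact absurd h (by simp)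
  · rw [dif_neg h0, dif_neg h0', Sum.inl.injEq] at h
    have hpi : π C = π C' := congrArg (fun g : {g : Top hF k // H41.seqDet g.1.1 = 1} => g.1.1) h
    obtain ⟨u, hu, hue⟩ := hπ C C' hpi
    have hx : ∃ x ∈ (sd C).1, x.2 = 1 := by
      by_contra hx
      apply h0
      show H41.seqFun (sd C).1 0 = 1
      rw [H41.seqFun, Multiset.filter_eq_nil.mpr (fun x hx' hx1 => hx ⟨x, hx', by simpa using hx1⟩)]
      simp
    obtain ⟨x, hxs, hx1⟩ := hx
    set μ := (u : Matrix (Fin (k + 1)) (Fin (k + 1)) F).det with hμ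
    have hμn := hnorm u hu
    obtain ⟨c, hc, hcc, hcd⟩ := exists_det_centralizer hF (hE (rep C)) (sd C) (hsd C) x hxs hx1
      (lam := μ ^ q) (by rw [pow_q_q hF, mul_comm]; exact hμn)
    refine hsame C C' (u * c) (mul_mem hu hc) (by rw [Units.val_mul, Matrix.det_mul, hcd]; exact hμn) ?_
    calc u * c * E (rep C) * (u * c)⁻¹ = u * (c * E (rep C) * c⁻¹) * u⁻¹ := by group
      _ = E (rep C') := by rw [hcc, mul_inv_cancel_right, hue]

include hF in
theorem lower_bound (n : ℕ) (hn : 0 < n) : q ^ (n - 1) ≤ Nat.card (ConjClasses (Cfsg.SU n F q)) := by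
  classical
  obtain ⟨m, rfl⟩ : ∃ m, n = m + 1 := ⟨n - 1, by omega⟩
  have hneg : ((-1 : F)) ^ q = -1 := by simpa using neg_pow_q hF (1 : F)
  let c₀ : Nm1 F q := ⟨(-1) ^ (m + 1), by
    rw [← pow_mul, mul_comm (m + 1), pow_mul, hneg, ← mul_pow, neg_one_mul, neg_neg, one_pow]⟩
  rw [Nat.add_sub_cancel, ← card_fixVec hF m c₀]
  choose f hf0 hfk using fun v : FixVec q m c₀.1 => exists_uPoly hF c₀ v
  have hc : ∀ v, H41.cTerm (f v).1 = 1 := fun v => by
    rw [H41.cTerm, (f v).2.2, hf0, ← mul_pow, neg_one_mul, neg_neg, one_pow]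
  choose g hg using fun v => exists_SU_charpoly hF (f v).2.1 (f v).2.2 hn (hc v)
  refine Nat.card_le_card_of_injective (fun v => ConjClasses.mk (g v)) fun v v' h => ?_
  obtain ⟨c, hcc⟩ := isConj_iff.mp (ConjClasses.mk_eq_mk_iff_isConj.mp h)
  have hcc' : (c : GL (Fin (m + 1)) F) * (g v : GL (Fin (m + 1)) F) * (c : GL (Fin (m + 1)) F)⁻¹ = (g v' : GL (Fin (m + 1)) F) := by
    rw [← hcc]; simp
  have hchar : (f v).1 = (f v').1 := by
    rw [← hg v, ← hg v', ← hcc', Units.val_mul, Units.val_mul, Matrix.coe_units_inv, Matrix.charpoly_units_conj]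
  exact Subtype.ext (funext fun k => by rw [← hfk v k, hchar, hfk v' k])

include hF in
theorem class_number_bounds (n : ℕ) (hn : 2 ≤ n) :
    q ^ (n - 1) ≤ Nat.card (ConjClasses (Cfsg.SU n F q)) ∧
      100 * Nat.card (ConjClasses (Cfsg.SU n F q)) ≤ 826 * q ^ (n - 1) := by
  classical
  refine ⟨lower_bound hF n (by omega), ?_⟩
  have hq : 2 ≤ q := one_lt_q hF
  obtain ⟨k, rfl⟩ : ∃ k, n = k + 1 := ⟨n - 1, by omega⟩
  rw [Nat.add_sub_cancel]
  have hU := upper_bound hF k
  have hT := card_top_det_le hF k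
  set K := Nat.card (ConjClasses (Cfsg.SU (k + 1) F q))
  set Tg := Nat.card {g : Top hF k // H41.seqDet g.1.1 = 1}
  set Lg := Nat.card {g : Low hF k // H41.seqDet g.1.1 = 1}
  rcases (show k = 1 ∨ 2 ≤ k by omega) with rfl | hk
  · have hTop : Nat.card (Top hF 1) ≤ (q + 1) * q := by
      haveI : Finite {f : F[X] // UFix hF f ∧ f.natDegree = 2} := finite_UPoly hF 2
      have key : ∀ g : Top hF 1, (g.1.1 0).natDegree = 2 ∧ g.1.1 1 = 1 := by
        intro g
        have h := g.1.2.2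
        rw [Fin.sum_univ_two] at h
        simp only [Fin.val_zero, Fin.val_one, add_zero, zero_add, one_mul] at h
        have h0 := (g.1.2.1 0).1.natDegree_pos.mpr g.2
        exact ⟨by omega, eq_one_of_monic_natDegree_zero (g.1.2.1 1).1 (by omega)⟩
      refine (Nat.card_le_card_of_injective
        (fun g : Top hF 1 => (⟨g.1.1 0, g.1.2.1 0, (key g).1⟩ : UPoly hF 2)) fun g g' h => ?_).trans
        ((card_UPoly_le hF 2).trans (by simp [fA]))
      refine Subtype.ext (Subtype.ext (funext fun i => ?_))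
      fin_cases i
      · exact congrArg Subtype.val h
      · exact (key g).2.trans (key g').2.symm
    have hLow : Lg ≤ 2 := by
      have key : ∀ g : {g : Low hF 1 // H41.seqDet g.1.1 = 1},
          (g.1.1.1 1).natDegree = 1 ∧ H41.cTerm (g.1.1.1 1) ^ 2 = 1 := by
        intro g
        have h := g.1.1.2.2
        have h2 := g.2
        rw [H41.seqDet, Fin.prod_univ_two, g.1.2, H41.cTerm_one] at h2
        rw [Fin.sum_univ_two, g.1.2, natDegree_one] at h
        simp only [Fin.val_zero, Fin.val_one, add_zero, zero_add, one_pow, one_mul, mul_zero] at h h2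
        exact ⟨by omega, h2⟩
      refine (Nat.card_le_card_of_injective (fun g => decide (H41.cTerm (g.1.1.1 1) = 1)) fun g g' h => ?_).trans
        (by simp)
      have e : H41.cTerm (g.1.1.1 1) = H41.cTerm (g'.1.1.1 1) := by
        have h' := decide_eq_decide.mp h
        rcases sq_eq_one_iff.mp (key g).2 with a | a
        · rw [a, h'.mp a]
        · rcases sq_eq_one_iff.mp (key g').2 with b | b
          · exact (h'.mpr b).trans b.symm
          · rw [a, b]
      refine Subtype.ext (Subtype.ext (Subtype.ext (funext fun i => ?_)))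
      fin_cases i
      · exact g.1.2.trans g'.1.2.symm
      · have a := (g.1.1.2.1 1).1.eq_X_add_C (key g).1
        have b := (g'.1.1.2.1 1).1.eq_X_add_C (key g').1
        simp only [H41.cTerm, (key g).1, (key g').1, pow_one, neg_one_mul, neg_inj] at e
        show g.1.1.1 1 = g'.1.1.1 1
        rw [a, b, e]
    have hTg : Tg ≤ q := Nat.le_of_mul_le_mul_left (hT.trans hTop) (Nat.succ_pos q)
    have := Nat.mul_le_mul_right (q + 1) hLow
    rw [pow_one]
    omega
  · have hsum := card_top_add_low hF k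
    have hall := (card_USeq_le hF 0 (k + 1) (k + 1)).2
    have hlow := (card_low_le hF k).trans (card_USeq_le hF 1 k (k + 1)).2
    have hLg : Lg ≤ Nat.card (Low hF k) := Nat.card_le_card_of_injective _ Subtype.val_injective
    have hnum := tNum_bound q (k + 1) hq (by omega)
    rw [Nat.add_sub_cancel] at hnum
    have h1 : (q + 1) * K ≤ tNum q 0 (k + 1) (k + 1) + q * (q + 2) * tNum q 1 k (k + 1) := by
      have a := Nat.mul_le_mul_left (q + 1) hU
      have b := Nat.mul_le_mul_left ((q + 1) * (q + 1)) hLg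
      have c := Nat.mul_le_mul_left (q * (q + 2)) hlow
      have e : (q + 1) * (q + 1) = q * (q + 2) + 1 := by ring
      calc (q + 1) * K ≤ (q + 1) * (Tg + Lg * (q + 1)) := a
        _ = (q + 1) * Tg + (q + 1) * (q + 1) * Lg := by ring
        _ ≤ Nat.card (Top hF k) + (q + 1) * (q + 1) * Nat.card (Low hF k) := Nat.add_le_add hT b
        _ = (Nat.card (Top hF k) + Nat.card (Low hF k)) + q * (q + 2) * Nat.card (Low hF k) := by
          rw [e]; ring
        _ ≤ _ := Nat.add_le_add (hsum ▸ hall) c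
    refine Nat.le_of_mul_le_mul_left ?_ (Nat.succ_pos q)
    calc (q + 1) * (100 * K) = 100 * ((q + 1) * K) := by ring
      _ ≤ 100 * (tNum q 0 (k + 1) (k + 1) + q * (q + 2) * tNum q 1 k (k + 1)) := Nat.mul_le_mul_left _ h1
      _ ≤ _ := hnum
      _ = _ := by rw [Nat.succ_eq_add_one]; ring

end H51.SUClasses
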