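import Cfsg.Agent.H51.Witt
import Cfsg.Agent.H41.Scale

/-! The twisted reciprocal of a polynomial, and elementary divisors of unitary matrices. -/

set_option autoImplicit false

open Polynomial Matrix

namespace H51.SUClasses

variable {F : Type*} [Field F] [Fintype F] {q n : ℕ} (hF : Fintype.card F = q ^ 2)

/-- The monic polynomial with roots `α ^ (-q)`, `α` running over the roots of `f`. -/
noncomputable def urev : F[X] →* F[X] where
  toFun f := C ((f.coeff 0 ^ q)⁻¹) * (f.map (qFrob hF)).reverse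
  map_one' := by simp [Polynomial.reverse]
  map_mul' f g := by
    rw [mul_coeff_zero, mul_pow, mul_inv, C_mul, Polynomial.map_mul, reverse_mul_of_domain]
    ring

lemma urev_apply (f : F[X]) : urev hF f = C ((f.coeff 0 ^ q)⁻¹) * (f.map (qFrob hF)).reverse := rfl

lemma natDegree_map_qFrob (f : F[X]) : (f.map (qFrob hF)).natDegree = f.natDegree :=
  natDegree_map_eq_of_injective (qFrob hF).injective f

lemma coeff_urev (f : F[X]) (i : ℕ) (hi : i ≤ f.natDegree) :
    (urev hF f).coeff i = (f.coeff 0 ^ q)⁻¹ * f.coeff (f.natDegree - i) ^ q := by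
  rw [urev_apply, coeff_C_mul, coeff_reverse, natDegree_map_qFrob, revAt_le hi, coeff_map, qFrob_apply]

lemma natDegree_urev {f : F[X]} (h0 : f.coeff 0 ≠ 0) : (urev hF f).natDegree = f.natDegree := by
  rw [urev_apply, natDegree_C_mul (inv_ne_zero (pow_ne_zero _ h0)), reverse_natDegree,
    natTrailingDegree_eq_zero.mpr (Or.inr (by rw [coeff_map, qFrob_apply]; exact pow_ne_zero q h0)),
    natDegree_map_qFrob, Nat.sub_zero]

lemma monic_urev {f : F[X]} (h0 : f.coeff 0 ≠ 0) : (urev hF f).Monic := by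
  rw [Monic, leadingCoeff, natDegree_urev hF h0, coeff_urev hF f _ le_rfl, Nat.sub_self,
    inv_mul_cancel₀ (pow_ne_zero _ h0)]

lemma coeff_zero_urev {f : F[X]} (hm : f.Monic) : (urev hF f).coeff 0 = (f.coeff 0 ^ q)⁻¹ := by
  rw [coeff_urev hF f 0 (Nat.zero_le _), Nat.sub_zero, hm.coeff_natDegree, one_pow, mul_one]

lemma coeff_zero_urev_ne {f : F[X]} (hm : f.Monic) (h0 : f.coeff 0 ≠ 0) :
    (urev hF f).coeff 0 ≠ 0 := by
  rw [coeff_zero_urev hF hm]; exact inv_ne_zero (pow_ne_zero _ h0)

lemma urev_urev {f : F[X]} (hm : f.Monic) (h0 : f.coeff 0 ≠ 0) : urev hF (urev hF f) = f := by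
  ext i
  rcases Nat.lt_or_ge f.natDegree i with hi | hi
  · rw [coeff_eq_zero_of_natDegree_lt hi, coeff_eq_zero_of_natDegree_lt]
    rwa [natDegree_urev hF (coeff_zero_urev_ne hF hm h0), natDegree_urev hF h0]
  · rw [coeff_urev hF _ i (by rwa [natDegree_urev hF h0]), natDegree_urev hF h0,
      coeff_zero_urev hF hm, coeff_urev hF f _ (Nat.sub_le _ _), Nat.sub_sub_self hi, mul_pow]
    simp only [inv_pow, pow_q_q hF, inv_inv]
    rw [← mul_assoc, mul_inv_cancel₀ h0, one_mul]

lemma irreducible_urev {f : F[X]} (hm : f.Monic) (hi : Irreducible f) (h0 : f.coeff 0 ≠ 0) :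
    Irreducible (urev hF f) := by
  refine (monic_urev hF h0).irreducible_iff_natDegree.mpr ⟨fun h => ?_, fun a b ha hb hab => ?_⟩
  · have := natDegree_urev hF h0
    rw [h, natDegree_one] at this
    exact hi.natDegree_pos.ne this
  · have hne := mul_ne_zero_iff.mp (show a.coeff 0 * b.coeff 0 ≠ 0 by
      rw [← mul_coeff_zero, hab]; exact coeff_zero_urev_ne hF hm h0)
    have h2 := congrArg (urev hF) hab
    rw [map_mul, urev_urev hF hm h0] at h2
    rcases hi.isUnit_or_isUnit h2.symm with h | h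
    · left
      rw [← natDegree_urev hF hne.1]; exact natDegree_eq_zero_of_isUnit h
    · right
      rw [← natDegree_urev hF hne.2]; exact natDegree_eq_zero_of_isUnit h

/-- A monic polynomial fixed by `urev`. -/
def UFix (f : F[X]) : Prop := f.Monic ∧ f.coeff 0 ≠ 0 ∧ urev hF f = f

lemma UFix.norm_coeff_zero {f : F[X]} (h : UFix hF f) : f.coeff 0 * f.coeff 0 ^ q = 1 := by
  have := coeff_zero_urev hF h.1
  rw [h.2.2] at this
  conv_lhs => arg 1; rw [this]
  exact inv_mul_cancel₀ (pow_ne_zero _ h.2.1)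

section Adj

variable {g : Matrix (Fin n) (Fin n) F}

/-- The adjoint as an additive map. -/
def adjAddHom : Matrix (Fin n) (Fin n) F →+ Matrix (Fin n) (Fin n) F where
  toFun := adj hF
  map_zero' := adj_zero hF
  map_add' := adj_add hF

lemma adj_aeval_mul_pow (hg : adj hF g * g = 1) (b : F[X]) :
    adj hF (aeval g b) * g ^ b.natDegree = aeval g ((b.map (qFrob hF)).reverse) := by
  rw [aeval_eq_sum_range (p := b) g]
  rw [show adj hF (∑ i ∈ Finset.range (b.natDegree + 1), b.coeff i • g ^ i) =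
    ∑ i ∈ Finset.range (b.natDegree + 1), adj hF (b.coeff i • g ^ i) from map_sum (adjAddHom hF) _ _]
  rw [Finset.sum_mul, aeval_eq_sum_range' (n := b.natDegree + 1)
      (by rw [Nat.lt_succ_iff]; exact (reverse_natDegree_le _).trans (natDegree_map_qFrob hF b).le)]
  conv_rhs => rw [← Finset.sum_range_reflect]
  refine Finset.sum_congr rfl fun i hi => ?_
  rw [Finset.mem_range] at hi
  have hi' : i ≤ b.natDegree := by omega
  rw [adj_smul, adj_pow, coeff_reverse, natDegree_map_qFrob,
    show b.natDegree + 1 - 1 - i = b.natDegree - i by omega, revAt_le (Nat.sub_le _ _),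
    Nat.sub_sub_self hi', coeff_map, qFrob_apply, smul_mul_assoc]
  congr 1
  conv_lhs => rw [show b.natDegree = i + (b.natDegree - i) by omega, pow_add, ← mul_assoc]
  rw [← (show Commute (adj hF g) g from hg.trans (mul_eq_one_comm.mp hg).symm).mul_pow, hg, one_pow, one_mul]

/-- The adjoint of `b g` is, up to units, `urev b` at `g`. -/
lemma adj_aeval_urev (hg : adj hF g * g = 1) (b : F[X]) (h0 : b.coeff 0 ≠ 0) :
    aeval g (urev hF b) = ((b.coeff 0 ^ q)⁻¹) • (adj hF (aeval g b) * g ^ b.natDegree) := by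
  rw [urev_apply, map_mul, aeval_C, ← Algebra.smul_def, adj_aeval_mul_pow hF hg]

lemma commute_adj_aeval (hg : adj hF g * g = 1) (b : F[X]) : Commute g (adj hF (aeval g b)) := by
  have h1 : Commute g (aeval g b) := by
    simpa using (Commute.all (X : F[X]) b).map (aeval g)
  have h2 : Commute (adj hF g) (adj hF (aeval g b)) := by
    show _ = _
    rw [← adj_mul, ← adj_mul, h1.eq]
  exact Commute.units_inv_left_iff (u := ⟨g, adj hF g, mul_eq_one_comm.mp hg, hg⟩) |>.mp h2

lemma mulVec_urev_eq_zero_iff (hg : adj hF g * g = 1) (b : F[X]) (h0 : b.coeff 0 ≠ 0) (v : Fin n → F) :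
    aeval g (urev hF b) *ᵥ v = 0 ↔ adj hF (aeval g b) *ᵥ v = 0 := by
  have hinv : adj hF g ^ b.natDegree * g ^ b.natDegree = 1 := by
    rw [← (show Commute (adj hF g) g from hg.trans (mul_eq_one_comm.mp hg).symm).mul_pow, hg, one_pow]
  rw [adj_aeval_urev hF hg b h0, smul_mulVec, smul_eq_zero_iff_right (inv_ne_zero (pow_ne_zero _ h0)),
    ← ((commute_adj_aeval hF hg b).pow_left b.natDegree).eq, ← mulVec_mulVec]
  constructor
  · intro h
    have := congrArg (fun x => adj hF g ^ b.natDegree *ᵥ x) h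
    rwa [mulVec_mulVec, hinv, one_mulVec, mulVec_zero] at this
  · intro h; rw [h, mulVec_zero]

lemma mulVec_pow_q (A : Matrix (Fin n) (Fin n) F) (v : Fin n → F) :
    (fun i => (A *ᵥ v) i ^ q) = A.map (qFrob hF) *ᵥ fun i => v i ^ q :=
  funext fun i => RingHom.map_mulVec (qFrob hF) A v i

/-- Kernels of a matrix and of its adjoint have equally many elements. -/
lemma finrank_ker_adj (A : Matrix (Fin n) (Fin n) F) :
    Module.finrank F (LinearMap.ker (Matrix.toLin' (adj hF A))) =
      Module.finrank F (LinearMap.ker (Matrix.toLin' A)) := by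
  classical
  have hrank : ∀ B : Matrix (Fin n) (Fin n) F,
      Module.finrank F (LinearMap.ker (Matrix.toLin' Bᵀ)) = Module.finrank F (LinearMap.ker (Matrix.toLin' B)) := by
    intro B
    have h1 := LinearMap.finrank_range_add_finrank_ker (Matrix.toLin' B)
    have h2 := LinearMap.finrank_range_add_finrank_ker (Matrix.toLin' Bᵀ)
    have h3 : Module.finrank F (LinearMap.range (Matrix.toLin' Bᵀ)) =
        Module.finrank F (LinearMap.range (Matrix.toLin' B)) := Matrix.rank_transpose B
    omega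
  rw [adj, hrank]
  let e : LinearMap.ker (Matrix.toLin' A) → LinearMap.ker (Matrix.toLin' (A.map (qFrob hF))) := fun v =>
    ⟨fun i => v.1 i ^ q, by
      rw [LinearMap.mem_ker, Matrix.toLin'_apply, ← mulVec_pow_q hF]
      funext i
      have : (A *ᵥ v.1) = 0 := v.2
      simp [this, (q_pos hF).ne']⟩
  have he : Function.Bijective e := by
    constructor
    · intro v w h
      exact Subtype.ext (funext fun i => pow_q_injective hF (congrFun (congrArg Subtype.val h) i))
    · intro w
      refine ⟨⟨fun i => w.1 i ^ q, ?_⟩, Subtype.ext (funext fun i => pow_q_q hF _)⟩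
      have h0 : A.map (qFrob hF) *ᵥ w.1 = 0 := w.2
      rw [LinearMap.mem_ker, Matrix.toLin'_apply]
      funext i
      refine pow_q_injective hF ?_
      show (A *ᵥ fun j => w.1 j ^ q) i ^ q = (0 : F) ^ q
      rw [show (A *ᵥ fun j => w.1 j ^ q) i ^ q = (A.map (qFrob hF) *ᵥ fun j => (w.1 j ^ q) ^ q) i from
        congrFun (mulVec_pow_q hF A _) i]
      simp [pow_q_q hF, h0, (q_pos hF).ne']
  have hc := Nat.card_congr (Equiv.ofBijective e he)
  rw [Module.natCard_eq_pow_finrank (K := F) (V := LinearMap.ker (Matrix.toLin' A)),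
    Module.natCard_eq_pow_finrank (K := F) (V := LinearMap.ker (Matrix.toLin' (A.map (qFrob hF))))] at hc
  exact (Nat.pow_right_injective (Nat.succ_le_of_lt (by rw [Nat.card_eq_fintype_card]; exact Fintype.one_lt_card)) hc).symm

end Adj

/-- The kernel dimension read off the elementary divisors. -/
lemma finrank_ker_matrix (g : GL (Fin n) F) (s : H41.EDiv F n)
    (hs : ConjClasses.mk g = H41.glClassEquiv s) (p : F[X]) (hp : p.Monic) (hi : Irreducible p) (k : ℕ) :
    Module.finrank F (LinearMap.ker (Matrix.toLin' (aeval (g : Matrix (Fin n) (Fin n) F) (p ^ k)))) =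
      H41.kerDim s.1 p k := by
  rw [← H41.glEnd_aeval, ((H41.mk_eq_glClassEquiv_iff g s).mp hs).finrank_ker_aeval,
    H41.finrank_ker_edModel s.1 (fun x hx => ⟨(s.2.1 x hx).1, (s.2.1 x hx).2.1⟩) p hp hi k]

lemma count_urev {g : GL (Fin n) F} (hg : g ∈ Cfsg.GU n F q) (s : H41.EDiv F n)
    (hs : ConjClasses.mk g = H41.glClassEquiv s) [DecidableEq F[X]] (p : F[X]) (hp : p.Monic)
    (hi : Irreducible p) (h0 : p.coeff 0 ≠ 0) (e : ℕ) :
    s.1.count (urev hF p, e) = s.1.count (p, e) := by
  have hA := (mem_GU_iff hF g).mp hg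
  rcases e with _ | k
  · rw [Multiset.count_eq_zero_of_notMem, Multiset.count_eq_zero_of_notMem] <;>
      exact fun h => absurd (s.2.1 _ h).2.2.2 (lt_irrefl 0)
  have hp' := monic_urev hF h0
  have hi' := irreducible_urev hF hp hi h0
  have hk : ∀ j, H41.kerDim s.1 (urev hF p) j = H41.kerDim s.1 p j := by
    intro j
    rw [← finrank_ker_matrix g s hs _ hp' hi', ← finrank_ker_matrix g s hs _ hp hi, ← map_pow,
      ← finrank_ker_adj hF (aeval (g : Matrix (Fin n) (Fin n) F) (p ^ j))]
    refine congrArg (fun W : Submodule F (Fin n → F) => Module.finrank F W) (Submodule.ext fun v => ?_)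
    simp only [LinearMap.mem_ker, Matrix.toLin'_apply]
    refine mulVec_urev_eq_zero_iff hF hA _ ?_ v
    rw [coeff_zero_eq_eval_zero, eval_pow, ← coeff_zero_eq_eval_zero]
    exact pow_ne_zero _ h0
  have h1 := H41.kerDim_count s.1 (urev hF p) k
  have h2 := H41.kerDim_count s.1 p k
  rw [hk, hk, hk, natDegree_urev hF h0] at h1
  exact Nat.eq_of_mul_eq_mul_left hi.natDegree_pos (by omega)

/-- The sequence of a unitary class consists of fixed polynomials. -/
theorem seqFun_fixed {g : GL (Fin n) F} (hg : g ∈ Cfsg.GU n F q) (s : H41.EDiv F n)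
    (hs : ConjClasses.mk g = H41.glClassEquiv s) (j : Fin n) : UFix hF (H41.seqFun s.1 j) := by
  classical
  have h1 := ((H41.edivSeqEquiv n) s).2.1 j
  refine ⟨h1.1, h1.2, ?_⟩
  have hmap : s.1.map (fun x => (urev hF x.1, x.2)) = s.1 := by
    refine Multiset.ext.mpr fun y => ?_
    rw [Multiset.count_map]
    by_cases hy : y.1.Monic ∧ Irreducible y.1 ∧ y.1.coeff 0 ≠ 0
    · obtain ⟨hy1, hy2, hy3⟩ := hy
      have hfil : s.1.filter (fun a => y = (urev hF a.1, a.2)) =
          s.1.filter (fun a => (urev hF y.1, y.2) = a) := by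
        refine Multiset.filter_congr fun a ha => ⟨fun h => ?_, fun h => ?_⟩
        · obtain ⟨ha1, ha2, ha3, -⟩ := s.2.1 a ha
          rw [h]
          exact Prod.ext (urev_urev hF ha1 (H41.coeff_zero_ne_of_irreducible ha1 ha2 ha3)) rfl
        · rw [← h]
          exact Prod.ext (urev_urev hF hy1 hy3).symm rfl
      rw [hfil, Multiset.filter_eq, Multiset.card_replicate]
      exact count_urev hF hg s hs y.1 hy1 hy2 hy3 y.2
    · rw [Multiset.count_eq_zero_of_notMem (fun h => hy ⟨(s.2.1 y h).1, (s.2.1 y h).2.1,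
        H41.coeff_zero_ne_of_irreducible (s.2.1 y h).1 (s.2.1 y h).2.1 (s.2.1 y h).2.2.1⟩),
        Multiset.card_eq_zero, Multiset.filter_eq_nil]
      intro a ha h
      obtain ⟨ha1, ha2, ha3, -⟩ := s.2.1 a ha
      have ha0 := H41.coeff_zero_ne_of_irreducible ha1 ha2 ha3
      exact hy (by rw [h]; exact ⟨monic_urev hF ha0, irreducible_urev hF ha1 ha2 ha0, coeff_zero_urev_ne hF ha1 ha0⟩)
  rw [H41.seqFun, map_multiset_prod, Multiset.map_map]
  conv_rhs => rw [← hmap, Multiset.filter_map, Multiset.map_map]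
  rfl

end H51.SUClasses
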